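import Mathlib
import Groth.Prelude.Def_HTop3
import Groth.Agent.RGFlatLib.Strict
import Groth.Agent.BlowUpLib.Props
import Groth.Agent.ModPairLib.Extra

/-!
# Almost blow up squares: the universal property

The closed subscheme of sections supported on a locally principal closed subscheme is final among
the morphisms pulling that subscheme back to an effective Cartier divisor.
-/

set_option autoImplicit false
set_option maxHeartbeats 1000000

noncomputable section

universe u

open CategoryTheory CategoryTheory.Limits AlgebraicGeometry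

namespace AlmostBlowLib

variable {X Y P T : Scheme.{u}}

/-- A morphism along which the ideal becomes effective Cartier factors through the supported closed subscheme. -/
theorem supportedOn_le_ker {I : P.IdealSheafData} (h : T ⟶ P)
    (hT : BlowUp.IsEffCartierIdeal (I.comap h)) : HTop.supportedOn I ≤ h.ker := by
  haveI := ModPairLib.isDominant_interior hT
  let W := ModPair.interior (I.comap h)
  have hr : Set.range (W.ι ≫ h) ⊆ Set.range (HTop.awayFrom I).ι := by
    rintro _ ⟨w, rfl⟩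
    rw [Scheme.Opens.range_ι]
    have hw : W.ι w ∈ (h ⁻¹ᵁ ModPair.interior I : T.Opens) := by
      rw [← ModPairLib.interior_comap]; exact w.2
    exact hw
  rw [← ModPairLib.ker_comp_dominant W.ι h, ← IsOpenImmersion.lift_fac (HTop.awayFrom I).ι (W.ι ≫ h) hr]
  exact Scheme.Hom.le_ker_comp _ _

theorem exists_lift_supportedOn {I : P.IdealSheafData} (h : T ⟶ P)
    (hT : BlowUp.IsEffCartierIdeal (I.comap h)) :
    ∃ l : T ⟶ (HTop.supportedOn I).subscheme, l ≫ (HTop.supportedOn I).subschemeι = h :=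
  ⟨IsClosedImmersion.lift (HTop.supportedOn I).subschemeι h
    (by rw [Scheme.IdealSheafData.ker_subschemeι]; exact supportedOn_le_ker h hT),
    IsClosedImmersion.lift_fac _ _ _⟩

/-- A locally principal ideal becomes effective Cartier on the supported closed subscheme. -/
theorem isEffCartier_supportedOn {I : P.IdealSheafData} (hI : HTop.IsLocPrincipal I) :
    BlowUp.IsEffCartierIdeal (I.comap (HTop.supportedOn I).subschemeι) := by
  haveI : IsAffineHom (HTop.awayFrom I).ι := RGFlatLib.quasiCompact_interior hI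
  haveI : QuasiCompact (HTop.awayFrom I).ι := inferInstance
  let j : ((HTop.awayFrom I : P.Opens) : Scheme.{u}) ⟶ (HTop.supportedOn I).subscheme := (HTop.awayFrom I).ι.toImage
  haveI : IsSchemeTheoreticallyDominant j := ModPairLib.isDominant_toImage
  haveI : QuasiCompact j := inferInstanceAs (QuasiCompact (HTop.awayFrom I).ι.toImage)
  intro x
  let t := (HTop.supportedOn I).subschemeι
  obtain ⟨U, hxU, f, hU⟩ := hI (t x)
  obtain ⟨V, hxV, e⟩ := BlowUpLib.exists_affine x (W := t ⁻¹ᵁ U.1) hxU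
  refine ⟨V, hxV, (t.appLE U.1 V.1 e).hom f, ?_, ?_⟩
  · have hu : IsUnit ((j.app V.1).hom ((t.appLE U.1 V.1 e).hom f)) := by
      apply RingedSpace.isUnit_of_isUnit_germ
      intro z hz
      rw [← Scheme.mem_basicOpen _ ((j.app V.1).hom ((t.appLE U.1 V.1 e).hom f)) z hz,
        ← Scheme.preimage_basicOpen]
      change j z ∈ (HTop.supportedOn I).subscheme.basicOpen ((t.appLE U.1 V.1 e).hom f)
      rw [Scheme.basicOpen_appLE]
      refine ⟨hz, ?_⟩
      change t (j z) ∈ P.basicOpen f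
      rw [← RGFlatLib.interior_inf_eq hU]
      refine ⟨?_, e hz⟩
      have : (j ≫ t) z = (HTop.awayFrom I).ι z := by
        rw [show j ≫ t = (HTop.awayFrom I).ι from (HTop.awayFrom I).ι.toImage_imageι]
      rw [← Scheme.Hom.comp_apply, this]
      exact z.2
    refine mem_nonZeroDivisors_iff_right.mpr fun z hz => j.app_injective V.1 ?_
    rw [map_zero]
    exact hu.mul_left_eq_zero.mp (by rw [← map_mul, hz, map_zero])
  · rw [Groth.Agent.S4666.ideal_comap_eq _ t U V e, hU, Ideal.map_span, Set.image_singleton]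

theorem isLocPrincipal_comap {I : Y.IdealSheafData} (hI : HTop.IsLocPrincipal I) (p : P ⟶ Y) :
    HTop.IsLocPrincipal (I.comap p) := fun x => by
  obtain ⟨U, hxU, f, hU⟩ := hI (p x)
  obtain ⟨V, hxV, e⟩ := BlowUpLib.exists_affine x (W := p ⁻¹ᵁ U.1) hxU
  exact ⟨V, hxV, (p.appLE U.1 V.1 e).hom f,
    by rw [Groth.Agent.S4666.ideal_comap_eq _ p U V e, hU, Ideal.map_span, Set.image_singleton]⟩

theorem isLocPrincipal_of_effCartier {I : Y.IdealSheafData} (hI : BlowUp.IsEffCartierIdeal I) :
    HTop.IsLocPrincipal I := fun x => by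
  obtain ⟨U, hxU, f, -, hU⟩ := hI x
  exact ⟨U, hxU, f, hU⟩

/-- The blow up condition of an almost blow up square, as a universal property of the whole morphism. -/
theorem existsUnique_lift {b : P ⟶ X} {K : X.IdealSheafData}
    (h : BlowUp.IsBlowUp ((HTop.supportedOn (K.comap b)).subschemeι ≫ b) K) (t : T ⟶ X)
    (ht : BlowUp.IsEffCartierIdeal (K.comap t)) : ∃! l : T ⟶ P, l ≫ b = t := by
  obtain ⟨l, hl, hu⟩ := h.2 T t ht
  refine ⟨l ≫ (HTop.supportedOn (K.comap b)).subschemeι, (Category.assoc _ _ _).trans hl, fun k hk => ?_⟩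
  obtain ⟨k', hk'⟩ := exists_lift_supportedOn (I := K.comap b) k
    (by rw [← Scheme.IdealSheafData.comap_comp, hk]; exact ht)
  rw [← hk', hu k' (by show k' ≫ _ ≫ b = t; rw [← Category.assoc, hk', hk])]

/-- Conversely. -/
theorem isBlowUp_supportedOn {b : P ⟶ X} {K : X.IdealSheafData} (hP : HTop.IsLocPrincipal (K.comap b))
    (h : ∀ (T : Scheme.{u}) (t : T ⟶ X), BlowUp.IsEffCartierIdeal (K.comap t) → ∃! l : T ⟶ P, l ≫ b = t) :
    BlowUp.IsBlowUp ((HTop.supportedOn (K.comap b)).subschemeι ≫ b) K := by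
  refine ⟨by rw [Scheme.IdealSheafData.comap_comp]; exact isEffCartier_supportedOn hP, fun T t ht => ?_⟩
  obtain ⟨l, hl, hu⟩ := h T t ht
  obtain ⟨l', hl'⟩ := exists_lift_supportedOn (I := K.comap b) l
    (by rw [← Scheme.IdealSheafData.comap_comp, hl]; exact ht)
  refine ⟨l', by show l' ≫ _ ≫ b = t; rw [← Category.assoc, hl', hl], fun k hk => ?_⟩
  rw [← cancel_mono (HTop.supportedOn (K.comap b)).subschemeι, hl']
  exact hu _ (by show (k ≫ _) ≫ b = t; rw [Category.assoc]; exact hk)

/-- Base change of almost blow up squares. -/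
theorem baseChange {E Z X' X Y E₁ Z₁ X₁ : Scheme.{u}} {e : E ⟶ X'} {π : E ⟶ Z} {b : X' ⟶ X} {i : Z ⟶ X}
    (h : HTop.IsAlmostBlowUpSquare e π b i) (g : Y ⟶ X) {b₁ : X₁ ⟶ Y} {gX : X₁ ⟶ X'}
    (hX : IsPullback gX b₁ b g) {i₁ : Z₁ ⟶ Y} {gZ : Z₁ ⟶ Z} (hZ : IsPullback gZ i₁ i g)
    {e₁ : E₁ ⟶ X₁} {gE : E₁ ⟶ E} (hE : IsPullback gE e₁ e gX) {π₁ : E₁ ⟶ Z₁} (hπ : π₁ ≫ i₁ = e₁ ≫ b₁) :
    HTop.IsAlmostBlowUpSquare e₁ π₁ b₁ i₁ := by
  haveI := h.isClosedImmersion
  haveI hi₁ : IsClosedImmersion i₁ := MorphismProperty.of_isPullback hZ h.isClosedImmersion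
  have hgE : π₁ ≫ gZ = gE ≫ π := by
    rw [← cancel_mono i, Category.assoc, hZ.w, reassoc_of% hπ, ← hX.w, Category.assoc,
      ← reassoc_of% hE.w, h.isPullback.w]
  have hsq : IsPullback e₁ (gE ≫ π) (b₁ ≫ g) i := by
    rw [← hX.w]; exact hE.flip.paste_vert h.isPullback
  have hpb : IsPullback e₁ π₁ b₁ i₁ :=
    IsPullback.of_bot (by rw [hgE]; exact hsq) hπ.symm hZ.flip
  have hker : i₁.ker = i.ker.comap g := by
    rw [← Scheme.IdealSheafData.ker_fst_of_isClosedImmersion i g, ← Scheme.Hom.ker_comp_of_isIso hZ.flip.isoPullback.hom,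
      hZ.flip.isoPullback_hom_fst]
  have hcomap : i₁.ker.comap b₁ = (i.ker.comap b).comap gX := by
    rw [hker, ← Scheme.IdealSheafData.comap_comp, ← Scheme.IdealSheafData.comap_comp, hX.w]
  have hlp : HTop.IsLocPrincipal (i₁.ker.comap b₁) := by
    rw [hcomap]; exact isLocPrincipal_comap h.locPrincipal gX
  refine ⟨hi₁, MorphismProperty.of_isPullback hZ h.finitePresentation_base, hpb, hlp,
    MorphismProperty.of_isPullback hX h.isProper, MorphismProperty.of_isPullback hX h.finitePresentation,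
    isBlowUp_supportedOn hlp fun T t ht => ?_⟩
  rw [hker, ← Scheme.IdealSheafData.comap_comp] at ht
  obtain ⟨l, hl, hu⟩ := existsUnique_lift h.isBlowUp (t ≫ g) ht
  refine ⟨hX.lift l t hl, hX.lift_snd _ _ _, fun k hk => ?_⟩
  refine hX.hom_ext ?_ (by rw [hX.lift_snd]; exact hk)
  rw [hX.lift_fst]
  exact hu _ (by show (k ≫ gX) ≫ b = t ≫ g; rw [Category.assoc, hX.w, ← Category.assoc, hk])

/-- A blow up square is an almost blow up square. -/
theorem of_isBlowUp {E Z X' : Scheme.{u}} {e : E ⟶ X'} {π : E ⟶ Z} {b : X' ⟶ X} {i : Z ⟶ X}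
    [IsClosedImmersion i] [LocallyOfFinitePresentation i] [IsProper b] [LocallyOfFinitePresentation b]
    (hE : IsPullback e π b i) (hb : BlowUp.IsBlowUp b i.ker) : HTop.IsAlmostBlowUpSquare e π b i :=
  ⟨‹_›, ‹_›, hE, isLocPrincipal_of_effCartier hb.1, ‹_›, ‹_›,
    isBlowUp_supportedOn (isLocPrincipal_of_effCartier hb.1) hb.2⟩

/-- Closed subschemes of the top right corner. -/
theorem ker_le_iff {E Z X' X W EW : Scheme.{u}} {e : E ⟶ X'} {π : E ⟶ Z} {b : X' ⟶ X} {i : Z ⟶ X}
    (h : HTop.IsAlmostBlowUpSquare e π b i) (w : W ⟶ X') [IsClosedImmersion w] [LocallyOfFinitePresentation w]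
    {eW : EW ⟶ W} {gE : EW ⟶ E} (hEW : IsPullback gE eW e w) :
    w.ker ≤ HTop.supportedOn (i.ker.comap b) ↔ HTop.IsAlmostBlowUpSquare eW (gE ≫ π) (w ≫ b) i := by
  haveI := h.isClosedImmersion
  haveI := h.isProper
  haveI := h.finitePresentation
  have hlp : HTop.IsLocPrincipal (i.ker.comap (w ≫ b)) := by
    rw [Scheme.IdealSheafData.comap_comp]; exact isLocPrincipal_comap h.locPrincipal w
  constructor
  · intro hle
    refine ⟨h.isClosedImmersion, h.finitePresentation_base, hEW.flip.paste_vert h.isPullback, hlp,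
      inferInstance, inferInstance, isBlowUp_supportedOn hlp fun T t ht => ?_⟩
    obtain ⟨l, hl, hu⟩ := existsUnique_lift h.isBlowUp t ht
    have hlw : w.ker ≤ l.ker :=
      hle.trans (supportedOn_le_ker l (by rw [← Scheme.IdealSheafData.comap_comp, hl]; exact ht))
    refine ⟨IsClosedImmersion.lift w l hlw, by show _ ≫ w ≫ b = t; rw [IsClosedImmersion.lift_fac_assoc, hl],
      fun k hk => ?_⟩
    rw [← cancel_mono w, IsClosedImmersion.lift_fac]
    exact hu _ (by show (k ≫ w) ≫ b = t; rw [Category.assoc]; exact hk)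
  · intro hW
    let ι := (HTop.supportedOn (i.ker.comap b)).subschemeι
    have ht : BlowUp.IsEffCartierIdeal (i.ker.comap (ι ≫ b)) := by
      rw [Scheme.IdealSheafData.comap_comp]; exact isEffCartier_supportedOn h.locPrincipal
    obtain ⟨l, hl, -⟩ := existsUnique_lift hW.isBlowUp (ι ≫ b) ht
    have : l ≫ w = ι :=
      (existsUnique_lift h.isBlowUp (ι ≫ b) ht).unique (by rw [Category.assoc]; exact hl) rfl
    calc w.ker ≤ (l ≫ w).ker := Scheme.Hom.le_ker_comp _ _
      _ = HTop.supportedOn (i.ker.comap b) := by rw [this, Scheme.IdealSheafData.ker_subschemeι]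

/-- An almost blow up square is isomorphic to the base away from the centre. -/
theorem exists_isAlmostBlowUpSquare_noetherian [IsLocallyNoetherian X] {Z : Scheme.{u}} (i : Z ⟶ X)
    [IsClosedImmersion i] [LocallyOfFinitePresentation i] :
    ∃ (E X' : Scheme.{u}) (e : E ⟶ X') (π : E ⟶ Z) (b : X' ⟶ X), HTop.IsAlmostBlowUpSquare e π b i := by
  obtain ⟨X', b, hb⟩ := BlowUpLib.exists_isBlowUp X i.ker
  haveI : IsProper b := BlowUpLib.isProper_of_isBlowUp hb fun U => by
    haveI := IsLocallyNoetherian.component_noetherian U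
    exact IsNoetherian.noetherian _
  haveI : LocallyOfFinitePresentation b := inferInstance
  exact ⟨_, X', _, _, b, of_isBlowUp (IsPullback.of_hasPullback b i) hb⟩

end AlmostBlowLib
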