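import Mathlib
import Groth.Agent.AlmostBlowLib.Basic
import Groth.Agent.NoethApproxLib.Closed
import Groth.Agent.NoethApproxLib.Main
import Groth.Agent.S0594

/-!
# Two almost blow ups are dominated by a third
-/

set_option autoImplicit false
set_option maxHeartbeats 1000000

noncomputable section

universe u

open CategoryTheory CategoryTheory.Limits AlgebraicGeometry Opposite

namespace AlmostBlowLib

set_option backward.isDefEq.respectTransparency false in
/-- A closed subscheme mapping by closed immersions to finitely many schemes is contained in one of finite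
presentation doing the same (two of them). -/
theorem exists_fp_closed {W P X₁ X₂ : Scheme.{u}} [CompactSpace P] [QuasiSeparatedSpace P] (γ : W ⟶ P)
    [IsClosedImmersion γ] (p₁ : P ⟶ X₁) (p₂ : P ⟶ X₂) [LocallyOfFiniteType p₁] [LocallyOfFiniteType p₂]
    [CompactSpace X₁] [QuasiSeparatedSpace X₁] [CompactSpace X₂] [QuasiSeparatedSpace X₂]
    (h₁ : IsClosedImmersion (γ ≫ p₁)) (h₂ : IsClosedImmersion (γ ≫ p₂)) :
    ∃ (P' : Scheme.{u}) (k : P' ⟶ P) (l : W ⟶ P'), IsClosedImmersion k ∧ LocallyOfFinitePresentation k ∧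
      l ≫ k = γ ∧ IsClosedImmersion (k ≫ p₁) ∧ IsClosedImmersion (k ≫ p₂) := by
  obtain ⟨B⟩ := NoethApproxLib.exists_approx P
  let D : B.Jᵒᵖ ⥤ Scheme.{u} := NoethApproxLib.closedDiag B γ ⋙ Over.forget P
  let c : Cone D := (Over.forget P).mapCone (NoethApproxLib.closedCone B γ)
  have hc : IsLimit c := isLimitOfPreserves (Over.forget P) (NoethApproxLib.nonempty_isLimit_closedCone B γ).some
  haveI hk : ∀ j, IsClosedImmersion (NoethApproxLib.closedι B γ j) := fun j =>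
    NoethApproxLib.isClosedImmersion_closedι B γ j
  haveI hl : ∀ j, LocallyOfFinitePresentation (NoethApproxLib.closedι B γ j) := fun j =>
    NoethApproxLib.lfp_closedι B γ j
  haveI : ∀ (i j : B.Jᵒᵖ) (f : i ⟶ j), IsClosedImmersion (D.map f) := fun i j f =>
    NoethApproxLib.isClosedImmersion_closedMap B γ (leOfHom f.unop)
  haveI : ∀ i, CompactSpace (D.obj i) := fun i =>
    haveI := hk i.unop; QuasiCompact.compactSpace_of_compactSpace (NoethApproxLib.closedι B γ i.unop)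
  haveI : ∀ i, QuasiSeparatedSpace (D.obj i) := fun i =>
    haveI := hk i.unop; quasiSeparatedSpace_of_quasiSeparated (NoethApproxLib.closedι B γ i.unop)
  obtain ⟨j₀⟩ := B.nonempty
  have key : ∀ {X' : Scheme.{u}} [CompactSpace X'] [QuasiSeparatedSpace X'] (q : P ⟶ X') [LocallyOfFiniteType q],
      IsClosedImmersion (γ ≫ q) → ∃ j, IsClosedImmersion (NoethApproxLib.closedι B γ j ≫ q) := by
    intro X' _ _ q _ hq
    let t : D ⟶ (Functor.const B.Jᵒᵖ).obj X' :=
      { app := fun i => NoethApproxLib.closedι B γ i.unop ≫ q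
        naturality := fun i j f => by
          show NoethApproxLib.closedMap B γ _ ≫ NoethApproxLib.closedι B γ j.unop ≫ q = _ ≫ 𝟙 _
          rw [Category.comp_id, ← Category.assoc, NoethApproxLib.closedMap_ι] }
    haveI : ∀ i, LocallyOfFiniteType (t.app i) := fun i =>
      inferInstanceAs (LocallyOfFiniteType (NoethApproxLib.closedι B γ i.unop ≫ q))
    haveI : IsClosedImmersion (c.π.app (op j₀) ≫ t.app (op j₀)) := by
      show IsClosedImmersion (NoethApproxLib.toClosedAt B γ j₀ ≫ NoethApproxLib.closedι B γ j₀ ≫ q)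
      rw [show NoethApproxLib.toClosedAt B γ j₀ ≫ NoethApproxLib.closedι B γ j₀ ≫ q = γ ≫ q from
        (Category.assoc _ _ _).symm.trans (congrArg (· ≫ q) (pullback.lift_snd _ _ _))]
      exact hq
    obtain ⟨i, hi⟩ := Groth.Agent.S0594.result X' D t c hc (op j₀)
    exact ⟨i.unop, hi⟩
  obtain ⟨j₁, hj₁⟩ := key p₁ h₁
  obtain ⟨j₂, hj₂⟩ := key p₂ h₂
  obtain ⟨j, a, b⟩ := exists_ge_ge j₁ j₂
  refine ⟨_, NoethApproxLib.closedι B γ j, NoethApproxLib.toClosedAt B γ j, hk j, hl j,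
    pullback.lift_snd _ _ _, ?_, ?_⟩
  · haveI := NoethApproxLib.isClosedImmersion_closedMap B γ a
    rw [← NoethApproxLib.closedMap_ι B γ a, Category.assoc]
    infer_instance
  · haveI := NoethApproxLib.isClosedImmersion_closedMap B γ b
    rw [← NoethApproxLib.closedMap_ι B γ b, Category.assoc]
    infer_instance

/-- Two almost blow ups with the same centre are dominated by a third. -/
theorem exists_dominating_two {Z X E₁ X₁ E₂ X₂ : Scheme.{u}} [CompactSpace X] [QuasiSeparatedSpace X] (i : Z ⟶ X)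
    {e₁ : E₁ ⟶ X₁} {π₁ : E₁ ⟶ Z} {b₁ : X₁ ⟶ X} (h₁ : HTop.IsAlmostBlowUpSquare e₁ π₁ b₁ i)
    {e₂ : E₂ ⟶ X₂} {π₂ : E₂ ⟶ Z} {b₂ : X₂ ⟶ X} (h₂ : HTop.IsAlmostBlowUpSquare e₂ π₂ b₂ i) :
    ∃ (E X' : Scheme.{u}) (e : E ⟶ X') (π : E ⟶ Z) (b : X' ⟶ X) (j₁ : X' ⟶ X₁) (j₂ : X' ⟶ X₂),
      HTop.IsAlmostBlowUpSquare e π b i ∧ IsClosedImmersion j₁ ∧ IsClosedImmersion j₂ ∧ j₁ ≫ b₁ = b ∧ j₂ ≫ b₂ = b := by
  haveI := h₁.isProper
  haveI := h₁.finitePresentation
  haveI := h₂.isProper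
  haveI := h₂.finitePresentation
  haveI : CompactSpace X₁ := QuasiCompact.compactSpace_of_compactSpace b₁
  haveI : QuasiSeparatedSpace X₁ := quasiSeparatedSpace_of_quasiSeparated b₁
  haveI : CompactSpace X₂ := QuasiCompact.compactSpace_of_compactSpace b₂
  haveI : QuasiSeparatedSpace X₂ := quasiSeparatedSpace_of_quasiSeparated b₂
  let p₁ := pullback.fst b₁ b₂
  let p₂ := pullback.snd b₁ b₂
  haveI : IsProper p₁ := MorphismProperty.pullback_fst _ _ ‹_›
  haveI : IsProper p₂ := MorphismProperty.pullback_snd _ _ ‹_›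
  haveI : CompactSpace (pullback b₁ b₂ : Scheme.{u}) := QuasiCompact.compactSpace_of_compactSpace p₁
  haveI : QuasiSeparatedSpace (pullback b₁ b₂ : Scheme.{u}) := quasiSeparatedSpace_of_quasiSeparated p₁
  let ι₁ := (HTop.supportedOn (i.ker.comap b₁)).subschemeι
  let ι₂ := (HTop.supportedOn (i.ker.comap b₂)).subschemeι
  obtain ⟨l, hl, -⟩ := h₂.isBlowUp.2 _ (ι₁ ≫ b₁) h₁.isBlowUp.1
  obtain ⟨l', hl', -⟩ := h₁.isBlowUp.2 _ (ι₂ ≫ b₂) h₂.isBlowUp.1
  have hll' : l ≫ l' = 𝟙 _ :=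
    (h₁.isBlowUp.2 _ (ι₁ ≫ b₁) h₁.isBlowUp.1).unique
      (by show (l ≫ l') ≫ ι₁ ≫ b₁ = ι₁ ≫ b₁; rw [Category.assoc, hl']; exact hl) (Category.id_comp _)
  have hl'l : l' ≫ l = 𝟙 _ :=
    (h₂.isBlowUp.2 _ (ι₂ ≫ b₂) h₂.isBlowUp.1).unique
      (by show (l' ≫ l) ≫ ι₂ ≫ b₂ = ι₂ ≫ b₂; rw [Category.assoc, hl]; exact hl') (Category.id_comp _)
  haveI : IsIso l := ⟨l', hll', hl'l⟩
  let γ := pullback.lift (f := b₁) (g := b₂) ι₁ (l ≫ ι₂) (hl.symm.trans (Category.assoc _ _ _).symm)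
  haveI hγ₁ : IsClosedImmersion (γ ≫ p₁) := by rw [show γ ≫ p₁ = ι₁ from pullback.lift_fst _ _ _]; infer_instance
  haveI hγ₂ : IsClosedImmersion (γ ≫ p₂) := by
    rw [show γ ≫ p₂ = l ≫ ι₂ from pullback.lift_snd _ _ _]; infer_instance
  haveI : IsClosedImmersion γ := IsClosedImmersion.of_comp γ p₁
  obtain ⟨P', k, m, _, _, hm, _, _⟩ := exists_fp_closed γ p₁ p₂ hγ₁ hγ₂
  haveI : LocallyOfFinitePresentation (k ≫ p₁) := inferInstance
  have hle : (k ≫ p₁).ker ≤ HTop.supportedOn (i.ker.comap b₁) := by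
    rw [← Scheme.IdealSheafData.ker_subschemeι (HTop.supportedOn (i.ker.comap b₁)),
      show (HTop.supportedOn (i.ker.comap b₁)).subschemeι = m ≫ (k ≫ p₁) by
        rw [← Category.assoc, hm, show γ ≫ p₁ = ι₁ from pullback.lift_fst _ _ _]]
    exact Scheme.Hom.le_ker_comp _ _
  have hsq := (ker_le_iff h₁ (k ≫ p₁) (IsPullback.of_hasPullback e₁ (k ≫ p₁))).1 hle
  exact ⟨_, _, _, _, _, k ≫ p₁, k ≫ p₂, hsq, ‹_›, ‹_›, rfl, by rw [Category.assoc, Category.assoc, pullback.condition]⟩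

end AlmostBlowLib
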