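import Mathlib
import Groth.Agent.S0591
import Groth.Agent.S2074
import Groth.Agent.S2075
import Groth.Agent.S2579

/-!
# Models of closed subschemes and of morphisms flat over an open, at a stage of a limit
-/

set_option autoImplicit false
set_option maxHeartbeats 1000000

noncomputable section

universe u

open CategoryTheory CategoryTheory.Limits AlgebraicGeometry

namespace AlmostBlowLib

/-- A property stable under base change passes to any model mapping to a model that has it. -/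
theorem prop_of_factor (P : MorphismProperty Scheme.{u}) [P.IsStableUnderBaseChange]
    {X₀ Y₀ Xi Yi X' Y' : Scheme.{u}} {f₀ : X₀ ⟶ Y₀} {pY : Yi ⟶ Y₀} {pX : Xi ⟶ X₀} {fi : Xi ⟶ Yi}
    (hi : IsPullback pX fi f₀ pY) {qY : Y' ⟶ Y₀} {qX : X' ⟶ X₀} {f' : X' ⟶ Y'} (h : IsPullback qX f' f₀ qY)
    (e : Y' ⟶ Yi) (he : e ≫ pY = qY) (hP : P fi) : P f' := by
  have hw : qX ≫ f₀ = (f' ≫ e) ≫ pY := by rw [Category.assoc, he]; exact h.w
  exact MorphismProperty.of_isPullback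
    (IsPullback.of_right (h₁₁ := hi.lift qX (f' ≫ e) hw) (by rwa [hi.lift_fst, he]) (hi.lift_snd _ _ _) hi) hP

variable {I : Type u} [SmallCategory I] [IsCofiltered I] (D : I ⥤ Scheme.{u}) (c : Cone D) (hc : IsLimit c)
  [∀ (i j : I) (f : i ⟶ j), IsAffineHom (D.map f)] [∀ i, CompactSpace (D.obj i)]
  [∀ i, QuasiSeparatedSpace (D.obj i)]

/-- A model moved to a later stage. -/
theorem exists_push {X : Scheme.{u}} {f : X ⟶ c.pt} {i j : I} (φ : j ⟶ i) {Xi : Scheme.{u}} {fi : Xi ⟶ D.obj i}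
    {g : X ⟶ Xi} (h : IsPullback g f fi (c.π.app i)) :
    ∃ g', IsPullback g' f (pullback.snd fi (D.map φ)) (c.π.app j) := by
  refine ⟨pullback.lift g (f ≫ c.π.app j) (by rw [Category.assoc, c.w]; exact h.w), ?_⟩
  exact IsPullback.of_right (by rwa [pullback.lift_fst, c.w]) (pullback.lift_snd _ _ _)
    (IsPullback.of_hasPullback fi (D.map φ))

include hc in
/-- A closed immersion of finite presentation comes from a stage. -/
theorem exists_stage_closed {Z : Scheme.{u}} (i : Z ⟶ c.pt) [IsClosedImmersion i] [LocallyOfFinitePresentation i] :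
    ∃ (j : I) (Zj : Scheme.{u}) (ij : Zj ⟶ D.obj j) (g : Z ⟶ Zj),
      IsClosedImmersion ij ∧ LocallyOfFinitePresentation ij ∧ IsPullback g i ij (c.π.app j) := by
  obtain ⟨i₁, Z₁, f₁, g₁, _, _, _, h₁⟩ := Groth.Agent.S0591.result D c hc Z i
  haveI : CompactSpace Z₁ := QuasiCompact.compactSpace_of_compactSpace f₁
  haveI : QuasiSeparatedSpace Z₁ := quasiSeparatedSpace_of_quasiSeparated f₁
  haveI : LocallyOfFiniteType f₁ := inferInstance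
  obtain ⟨i₂, φ, Z₂', Y₂, f₂', a₂, pY, pX, hY₂, hX₂, hp⟩ :=
    Groth.Agent.S2074.result D c hc i₁ f₁ (𝟙 _) i (𝟙 _) (c.π.app i₁) g₁ (IsPullback.of_vert_isIso ⟨by simp⟩) h₁
  let f₂ := pullback.snd f₁ (D.map φ)
  haveI : IsProper f₂ := prop_of_factor @IsProper hX₂ (IsPullback.of_hasPullback f₁ (D.map φ))
    (hY₂.lift (D.map φ) (𝟙 _) (by simp)) (hY₂.lift_fst _ _ _) hp
  obtain ⟨g₂, h₂⟩ := exists_push D c φ h₁
  haveI : LocallyOfFinitePresentation f₂ := MorphismProperty.pullback_snd _ _ ‹_›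
  haveI : LocallyOfFinitePresentation (f₂ ≫ 𝟙 (D.obj i₂)) := by rwa [Category.comp_id]
  haveI : QuasiCompact (f₂ ≫ 𝟙 (D.obj i₂)) := by rw [Category.comp_id]; infer_instance
  haveI : QuasiSeparated (f₂ ≫ 𝟙 (D.obj i₂)) := by rw [Category.comp_id]; infer_instance
  obtain ⟨i₃, ψ, Z₃', Y₃, f₃', a₃, pY', pX', hY₃, hX₃, hm⟩ :=
    Groth.Agent.S2579.result D c hc i₂ f₂ (𝟙 _) i (𝟙 _) (c.π.app i₂) g₂ (IsPullback.of_vert_isIso ⟨by simp⟩) h₂
  let f₃ := pullback.snd f₂ (D.map ψ)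
  haveI : IsProper f₃ := MorphismProperty.pullback_snd _ _ ‹_›
  haveI : Mono f₃ := prop_of_factor (MorphismProperty.monomorphisms _) hX₃ (IsPullback.of_hasPullback f₂ (D.map ψ))
    (hY₃.lift (D.map ψ) (𝟙 _) (by simp)) (hY₃.lift_fst _ _ _) hm
  obtain ⟨g₃, h₃⟩ := exists_push D c ψ h₂
  exact ⟨i₃, _, f₃, g₃, (IsClosedImmersion.iff_isProper_and_mono f₃).2 ⟨‹_›, ‹_›⟩,
    MorphismProperty.pullback_snd _ _ ‹_›, h₃⟩

include hc in
/-- A morphism of finite presentation flat over a quasi-compact open comes from such a morphism at a stage. -/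
theorem exists_stage_flat {X : Scheme.{u}} (f : X ⟶ c.pt) [LocallyOfFinitePresentation f] [QuasiCompact f]
    [QuasiSeparated f] (V : c.pt.Opens) (hV : IsCompact (V : Set c.pt)) (hf : Flat (f ∣_ V)) :
    ∃ (j : I) (Xj : Scheme.{u}) (fj : Xj ⟶ D.obj j) (Vj : (D.obj j).Opens) (g : X ⟶ Xj),
      LocallyOfFinitePresentation fj ∧ QuasiCompact fj ∧ QuasiSeparated fj ∧
      IsPullback g f fj (c.π.app j) ∧ c.π.app j ⁻¹ᵁ Vj = V ∧ IsCompact (Vj : Set (D.obj j)) ∧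
      Flat (fj ∣_ Vj) := by
  haveI : ∀ {a b : I} (f : a ⟶ b), IsAffineHom (D.map f) := fun f => inferInstance
  obtain ⟨i₁, X₁, f₁, g₁, _, _, _, h₁⟩ := Groth.Agent.S0591.result D c hc X f
  obtain ⟨i₂, V₂, hV₂, hVV⟩ := exists_preimage_eq D c hc V hV
  obtain ⟨j, a, b, -⟩ := IsCofilteredOrEmpty.cone_objs i₁ i₂
  let fj := pullback.snd f₁ (D.map a)
  let Vj := D.map b ⁻¹ᵁ V₂
  have hVj : IsCompact (Vj : Set (D.obj j)) := QuasiCompact.isCompact_preimage _ V₂.2 hV₂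
  have hpre : c.π.app j ⁻¹ᵁ Vj = V := by
    show c.π.app j ⁻¹ᵁ D.map b ⁻¹ᵁ V₂ = V
    rw [← Scheme.Hom.comp_preimage, c.w, hVV]
  subst hpre
  obtain ⟨g, hg⟩ := exists_push D c a h₁
  haveI : LocallyOfFinitePresentation fj := MorphismProperty.pullback_snd _ _ ‹_›
  haveI : CompactSpace (Vj : Scheme.{u}) := isCompact_iff_compactSpace.mp hVj
  haveI : CompactSpace ((fj ⁻¹ᵁ Vj : _) : Scheme.{u}) :=
    isCompact_iff_compactSpace.mp (QuasiCompact.isCompact_preimage _ Vj.2 hVj)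
  haveI : QuasiSeparatedSpace (pullback f₁ (D.map a) : Scheme.{u}) := quasiSeparatedSpace_of_quasiSeparated fj
  haveI : QuasiSeparatedSpace ((fj ⁻¹ᵁ Vj : _) : Scheme.{u}) :=
    QuasiSeparatedSpace.of_isOpenEmbedding (fj ⁻¹ᵁ Vj).ι.isOpenEmbedding
  haveI : QuasiSeparatedSpace (Vj : Scheme.{u}) := QuasiSeparatedSpace.of_isOpenEmbedding Vj.ι.isOpenEmbedding
  haveI : LocallyOfFinitePresentation (fj ∣_ Vj) := inferInstance
  let qY := c.π.app j ∣_ Vj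
  have hY : IsPullback qY (c.π.app j ⁻¹ᵁ Vj).ι Vj.ι (c.π.app j) := isPullback_morphismRestrict _ _
  have hbig : IsPullback ((f ⁻¹ᵁ (c.π.app j ⁻¹ᵁ Vj)).ι ≫ g) (f ∣_ (c.π.app j ⁻¹ᵁ Vj)) fj (qY ≫ Vj.ι) := by
    rw [hY.w]
    exact (isPullback_morphismRestrict f (c.π.app j ⁻¹ᵁ Vj)).flip.paste_horiz hg
  have hw : ((f ⁻¹ᵁ (c.π.app j ⁻¹ᵁ Vj)).ι ≫ g) ≫ fj = (f ∣_ (c.π.app j ⁻¹ᵁ Vj) ≫ qY) ≫ Vj.ι := by
    rw [Category.assoc (f ∣_ _), hbig.w]
  let hr := (isPullback_morphismRestrict fj Vj).flip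
  have hX : IsPullback (hr.lift _ _ hw) (f ∣_ (c.π.app j ⁻¹ᵁ Vj)) (fj ∣_ Vj) qY :=
    IsPullback.of_right (by rwa [hr.lift_fst]) (hr.lift_snd _ _ _) hr
  obtain ⟨k, φ, Xk, Yk, fk', gk, pY, pX, hYk, hXk, hflat⟩ :=
    Groth.Agent.S2075.result D c hc j (fj ∣_ Vj) Vj.ι (f ∣_ (c.π.app j ⁻¹ᵁ Vj))
      (c.π.app j ⁻¹ᵁ Vj).ι qY _ hY hX
  obtain ⟨g', hg'⟩ := exists_push D c φ hg
  refine ⟨k, _, pullback.snd fj (D.map φ), D.map φ ⁻¹ᵁ Vj, g', MorphismProperty.pullback_snd _ _ ‹_›,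
    MorphismProperty.pullback_snd _ _ inferInstance, MorphismProperty.pullback_snd _ _ inferInstance, hg',
    by rw [← Scheme.Hom.comp_preimage, c.w], QuasiCompact.isCompact_preimage _ Vj.2 hVj, ?_⟩
  let fk := pullback.snd fj (D.map φ)
  let qk := D.map φ ∣_ Vj
  have hYk' : IsPullback qk (D.map φ ⁻¹ᵁ Vj).ι Vj.ι (D.map φ) := isPullback_morphismRestrict _ _
  have hbk : IsPullback ((fk ⁻¹ᵁ (D.map φ ⁻¹ᵁ Vj)).ι ≫ pullback.fst fj (D.map φ)) (fk ∣_ (D.map φ ⁻¹ᵁ Vj)) fj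
      (qk ≫ Vj.ι) := by
    rw [hYk'.w]
    exact (isPullback_morphismRestrict fk (D.map φ ⁻¹ᵁ Vj)).flip.paste_horiz (IsPullback.of_hasPullback _ _)
  have hwk : ((fk ⁻¹ᵁ (D.map φ ⁻¹ᵁ Vj)).ι ≫ pullback.fst fj (D.map φ)) ≫ fj =
      (fk ∣_ (D.map φ ⁻¹ᵁ Vj) ≫ qk) ≫ Vj.ι := by
    rw [Category.assoc (fk ∣_ _), hbk.w]
  have hXk' : IsPullback (hr.lift _ _ hwk) (fk ∣_ (D.map φ ⁻¹ᵁ Vj)) (fj ∣_ Vj) qk :=
    IsPullback.of_right (by rwa [hr.lift_fst]) (hr.lift_snd _ _ _) hr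
  exact prop_of_factor @Flat hXk hXk' (hYk.lift qk (D.map φ ⁻¹ᵁ Vj).ι hYk'.w) (hYk.lift_fst _ _ _) hflat

end AlmostBlowLib
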