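import Mathlib
import Groth.Agent.AlmostBlowLib.Basic
import Groth.Agent.AlmostBlowLib.Stage
import Groth.Agent.NoethApproxLib.Main
import Groth.Agent.RGFlatLib.Setup
import Groth.Agent.RGFlatLib.StrictBlowUp

/-!
# Existence of almost blow ups, and flattening by almost blow ups
-/

set_option autoImplicit false
set_option maxHeartbeats 1000000

noncomputable section

universe u

open CategoryTheory CategoryTheory.Limits AlgebraicGeometry

namespace AlmostBlowLib

/-- Every closed subscheme of finite presentation of a qcqs scheme is the centre of an almost blow up square. -/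
theorem exists_square {Z X : Scheme.{u}} [CompactSpace X] [QuasiSeparatedSpace X] (i : Z ⟶ X)
    [IsClosedImmersion i] [LocallyOfFinitePresentation i] :
    ∃ (E X' : Scheme.{u}) (e : E ⟶ X') (π : E ⟶ Z) (b : X' ⟶ X), HTop.IsAlmostBlowUpSquare e π b i := by
  obtain ⟨A⟩ := NoethApproxLib.exists_approx X
  obtain ⟨j, Z₁, i₁, gZ, _, _, hZ⟩ := exists_stage_closed A.D A.cone A.isLimit i
  haveI : IsLocallyNoetherian (A.D.obj j) := A.isLocallyNoetherian j
  obtain ⟨E₁, X₁', e₁, π₁, b₁, h₁⟩ := exists_isAlmostBlowUpSquare_noetherian i₁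
  let p : X ⟶ A.D.obj j := A.cone.π.app j
  have hX' : IsPullback (pullback.fst b₁ p) (pullback.snd b₁ p) b₁ p := IsPullback.of_hasPullback _ _
  refine ⟨pullback e₁ (pullback.fst b₁ p), _, pullback.snd _ _,
    hZ.lift (pullback.fst e₁ (pullback.fst b₁ p) ≫ π₁) (pullback.snd _ _ ≫ pullback.snd b₁ p) ?_, _,
    baseChange h₁ p hX' hZ (IsPullback.of_hasPullback _ _) (hZ.lift_snd _ _ _)⟩
  show _ = (_ ≫ pullback.snd b₁ p) ≫ p
  rw [Category.assoc, Category.assoc, ← h₁.isPullback.w, ← hX'.w, pullback.condition_assoc]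

/-- Flattening by almost blow ups. -/
theorem exists_flattening {X Y : Scheme.{u}} [CompactSpace Y] [QuasiSeparatedSpace Y] (f : X ⟶ Y)
    [LocallyOfFinitePresentation f] [QuasiCompact f] [QuasiSeparated f] (V : Y.Opens)
    (hV : IsCompact (V : Set Y)) (hf : Flat (f ∣_ V)) :
    ∃ (Z Y' E T X' D : Scheme.{u}) (iZ : Z ⟶ Y) (bY : Y' ⟶ Y) (eE : E ⟶ Y') (πE : E ⟶ Z) (iT : T ⟶ X)
      (bX : X' ⟶ X) (eD : D ⟶ X') (πD : D ⟶ T) (fZ : T ⟶ Z) (f' : X' ⟶ Y') (fE : D ⟶ E),
      HTop.IsAlmostBlowUpSquare eE πE bY iZ ∧ HTop.IsAlmostBlowUpSquare eD πD bX iT ∧ IsPullback fZ iT iZ f ∧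
      IsPullback fE eD eE f' ∧ f' ≫ bY = bX ≫ f ∧ πD ≫ fZ = fE ≫ πE ∧ iZ ⁻¹ᵁ V = ⊥ ∧ Flat f' ∧
      LocallyOfFinitePresentation f' := by
  obtain ⟨A⟩ := NoethApproxLib.exists_approx Y
  obtain ⟨j, X₁, f₁, V₁, g, _, _, _, hg, hpre, hV₁, hflat⟩ := exists_stage_flat A.D A.cone A.isLimit f V hV hf
  subst hpre
  let Y₁ := A.D.obj j
  haveI : IsLocallyNoetherian Y₁ := A.isLocallyNoetherian j
  haveI : IsLocallyNoetherian X₁ := LocallyOfFiniteType.isLocallyNoetherian f₁
  let p : Y ⟶ Y₁ := A.cone.π.app j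
  haveI : LocallyOfFinitePresentation (f₁ ∣_ V₁) := inferInstance
  obtain ⟨K, S', b, hb, hK, _, -, -, hflatK⟩ := RGFlatLib.exists_flattening_blowUp f₁ V₁ hV₁
  let p₁ := pullback.fst f₁ b
  let p₂ := pullback.snd f₁ b
  have hP : IsPullback p₁ p₂ f₁ b := IsPullback.of_hasPullback _ _
  obtain ⟨𝒥, h𝒥⟩ := RGFlatLib.exists_strictIdeal hb.1 p₂
  have hexc : (K.comap f₁).comap p₁ = (K.comap b).comap p₂ := RGFlatLib.exceptional_eq hP K
  obtain ⟨hf₁', hf₁'', -, -, -⟩ := hflatK _ p₁ p₂ hP 𝒥 (by rw [hexc]; exact h𝒥)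
  let f₁' := 𝒥.subschemeι ≫ p₂
  let bX₁ := 𝒥.subschemeι ≫ p₁
  have hbX₁ : BlowUp.IsBlowUp bX₁ (K.comap f₁) := RGFlatLib.isBlowUp_strict hb hP h𝒥
  let i₁ := K.subschemeι
  haveI : LocallyOfFinitePresentation i₁ := inferInstance
  let iT₁ := pullback.fst f₁ i₁
  haveI : IsClosedImmersion iT₁ := inferInstanceAs (IsClosedImmersion (pullback.fst f₁ i₁))
  haveI : LocallyOfFinitePresentation iT₁ := inferInstance
  haveI : LocallyOfFiniteType b := inferInstance
  haveI : LocallyOfFinitePresentation b := inferInstance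
  haveI : IsProper p₁ := MorphismProperty.pullback_fst _ _ ‹_›
  haveI : IsProper bX₁ := inferInstanceAs (IsProper (𝒥.subschemeι ≫ p₁))
  haveI : LocallyOfFinitePresentation bX₁ := inferInstance
  have hsY : HTop.IsAlmostBlowUpSquare (pullback.fst b i₁) (pullback.snd b i₁) b i₁ :=
    of_isBlowUp (IsPullback.of_hasPullback _ _) (by rw [Scheme.IdealSheafData.ker_subschemeι]; exact hb)
  have hsX : HTop.IsAlmostBlowUpSquare (pullback.fst bX₁ iT₁) (pullback.snd bX₁ iT₁) bX₁ iT₁ :=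
    of_isBlowUp (IsPullback.of_hasPullback _ _)
      (by rw [Scheme.IdealSheafData.ker_fst_of_isClosedImmersion, Scheme.IdealSheafData.ker_subschemeι]; exact hbX₁)
  -- base change to `Y` and to `X`
  have hZ : IsPullback (pullback.fst i₁ p) (pullback.snd i₁ p) i₁ p := IsPullback.of_hasPullback _ _
  have hY' : IsPullback (pullback.fst b p) (pullback.snd b p) b p := IsPullback.of_hasPullback _ _
  have hE : IsPullback (pullback.fst (pullback.fst b i₁) (pullback.fst b p))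
      (pullback.snd (pullback.fst b i₁) (pullback.fst b p)) (pullback.fst b i₁) (pullback.fst b p) :=
    IsPullback.of_hasPullback _ _
  let πE := hZ.lift (pullback.fst (pullback.fst b i₁) (pullback.fst b p) ≫ pullback.snd b i₁)
    (pullback.snd (pullback.fst b i₁) (pullback.fst b p) ≫ pullback.snd b p)
    (by rw [Category.assoc, Category.assoc, ← hY'.w, ← pullback.condition, hE.w_assoc])
  have hsqY := baseChange hsY p hY' hZ hE (π₁ := πE) (hZ.lift_snd _ _ _)
  have hT : IsPullback (pullback.fst iT₁ g) (pullback.snd iT₁ g) iT₁ g := IsPullback.of_hasPullback _ _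
  have hX' : IsPullback (pullback.fst bX₁ g) (pullback.snd bX₁ g) bX₁ g := IsPullback.of_hasPullback _ _
  have hD : IsPullback (pullback.fst (pullback.fst bX₁ iT₁) (pullback.fst bX₁ g))
      (pullback.snd (pullback.fst bX₁ iT₁) (pullback.fst bX₁ g)) (pullback.fst bX₁ iT₁) (pullback.fst bX₁ g) :=
    IsPullback.of_hasPullback _ _
  let πD := hT.lift (pullback.fst (pullback.fst bX₁ iT₁) (pullback.fst bX₁ g) ≫ pullback.snd bX₁ iT₁)
    (pullback.snd (pullback.fst bX₁ iT₁) (pullback.fst bX₁ g) ≫ pullback.snd bX₁ g)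
    (by rw [Category.assoc, Category.assoc, ← hX'.w, ← pullback.condition, hD.w_assoc])
  have hsqX := baseChange hsX g hX' hT hD (π₁ := πD) (hT.lift_snd _ _ _)
  -- the maps
  have hTbig : IsPullback (pullback.fst iT₁ g ≫ pullback.snd f₁ i₁) (pullback.snd iT₁ g) i₁ (f ≫ p) := by
    have h := hT.paste_horiz (IsPullback.of_hasPullback f₁ i₁).flip
    rwa [hg.w] at h
  let fZ := hZ.lift (pullback.fst iT₁ g ≫ pullback.snd f₁ i₁) (pullback.snd iT₁ g ≫ f)
    (by rw [hTbig.w, Category.assoc])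
  have hfZ : IsPullback fZ (pullback.snd iT₁ g) (pullback.snd i₁ p) f :=
    IsPullback.of_right (by rwa [hZ.lift_fst]) (hZ.lift_snd _ _ _) hZ
  have hXbig : IsPullback (pullback.fst bX₁ g) (pullback.snd bX₁ g ≫ f) (f₁' ≫ b) p := by
    have h := hX'.paste_vert hg
    rwa [show bX₁ ≫ f₁ = f₁' ≫ b by simp only [bX₁, f₁', Category.assoc, hP.w]] at h
  let f' := hY'.lift (pullback.fst bX₁ g ≫ f₁') (pullback.snd bX₁ g ≫ f)
    (by rw [Category.assoc]; exact hXbig.w)
  have hf' : IsPullback (pullback.fst bX₁ g) f' f₁' (pullback.fst b p) :=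
    IsPullback.of_bot (by rwa [hY'.lift_snd]) (hY'.lift_fst _ _ _).symm hY'
  have hDbig : IsPullback (πD ≫ fZ) (pullback.snd (pullback.fst bX₁ iT₁) (pullback.fst bX₁ g))
      (pullback.snd i₁ p) (pullback.snd bX₁ g ≫ f) := (hsqX.isPullback.paste_vert hfZ.flip).flip
  let fE := hsqY.isPullback.lift (pullback.snd (pullback.fst bX₁ iT₁) (pullback.fst bX₁ g) ≫ f') (πD ≫ fZ)
    (by rw [Category.assoc, hY'.lift_snd]; exact hDbig.w.symm)
  have hfE : IsPullback fE (pullback.snd (pullback.fst bX₁ iT₁) (pullback.fst bX₁ g))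
      (pullback.snd (pullback.fst b i₁) (pullback.fst b p)) f' :=
    IsPullback.of_right (by rw [hsqY.isPullback.lift_snd, hY'.lift_snd]; exact hDbig)
      (hsqY.isPullback.lift_fst _ _ _) hsqY.isPullback.flip
  refine ⟨_, _, _, _, _, _, _, _, _, πE, _, _, _, πD, fZ, f', fE, hsqY, hsqX, hfZ, hfE, hY'.lift_snd _ _ _,
    (hsqY.isPullback.lift_snd _ _ _).symm, ?_, MorphismProperty.of_isPullback hf' hf₁',
    MorphismProperty.of_isPullback hf' hf₁''⟩
  refine TopologicalSpace.Opens.ext (Set.eq_empty_iff_forall_notMem.2 fun z hz => ?_)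
  have h1 : p (pullback.snd i₁ p z) ∈ V₁ := hz
  rw [← Scheme.Hom.comp_apply, ← hZ.w, Scheme.Hom.comp_apply] at h1
  refine Set.disjoint_left.1 hK.2 ?_ h1
  rw [← Scheme.IdealSheafData.range_subschemeι]
  exact ⟨_, rfl⟩

end AlmostBlowLib
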