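import Mathlib
import Groth.Agent.AlmostBlowLib.Flatten
import Groth.Agent.RzLib.Square

/-!
# Sections on almost blow up squares: reductions on the base and on the number of generators
-/

set_option autoImplicit false
set_option maxHeartbeats 1000000

noncomputable section

universe w u

open CategoryTheory CategoryTheory.Limits AlgebraicGeometry Opposite

namespace AlmostBlowLib

open RzLib.VSh (map_map')
open RzLib.OSh (ext_open glue_open)

variable {S : Scheme.{u}}

/-- The two sections agree on every common refinement. -/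
def Compat (F : (Over S)ᵒᵖ ⥤ Type w) {Z X' X : Over S} (i : Z ⟶ X) (b : X' ⟶ X) (t : F.obj (op Z))
    (s' : F.obj (op X')) : Prop :=
  ∀ (T : Over S) (g : T ⟶ X') (g' : T ⟶ Z), g ≫ b = g' ≫ i → F.map g.op s' = F.map g'.op t

/-- A solution over `a`: it restricts to `t` and to `s'` wherever this makes sense. -/
def Res (F : (Over S)ᵒᵖ ⥤ Type w) {Z X' X : Over S} (i : Z ⟶ X) (b : X' ⟶ X) (t : F.obj (op Z))
    (s' : F.obj (op X')) {W : Over S} (a : W ⟶ X) (σ : F.obj (op W)) : Prop :=
  (∀ (T : Over S) (g : T ⟶ W) (g' : T ⟶ Z), g ≫ a = g' ≫ i → F.map g.op σ = F.map g'.op t) ∧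
  ∀ (T : Over S) (g : T ⟶ W) (g' : T ⟶ X'), g ≫ a = g' ≫ b → F.map g.op σ = F.map g'.op s'

/-- The square is cartesian on sections. -/
def Cart (F : (Over S)ᵒᵖ ⥤ Type w) {Z X' X : Over S} (i : Z ⟶ X) (b : X' ⟶ X) : Prop :=
  ∀ t s', Compat F i b t s' → ∃! σ : F.obj (op X), F.map i.op σ = t ∧ F.map b.op σ = s'

/-- Two morphisms are the edges of an almost blow up square. -/
def IsSquare {Z X' X : Over S} (i : Z ⟶ X) (b : X' ⟶ X) : Prop :=
  ∃ (E : Scheme.{u}) (e : E ⟶ X'.left) (π : E ⟶ Z.left), HTop.IsAlmostBlowUpSquare e π b.left i.left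

/-- Around every point the ideal is generated by `m` sections. -/
def GenBy {X : Scheme.{u}} (m : ℕ) (K : X.IdealSheafData) : Prop :=
  ∀ x : X, ∃ U : X.affineOpens, x ∈ U.1 ∧ ∃ a : Fin m → Γ(X, U.1), K.ideal U = Ideal.span (Set.range a)

variable {F : (Over S)ᵒᵖ ⥤ Type w} {Z X' X : Over S} {i : Z ⟶ X} {b : X' ⟶ X} {t : F.obj (op Z)}
  {s' : F.obj (op X')}

theorem Res.comp {W V : Over S} {a : W ⟶ X} {σ : F.obj (op W)} (h : Res F i b t s' a σ) (k : V ⟶ W) :
    Res F i b t s' (k ≫ a) (F.map k.op σ) :=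
  ⟨fun T g g' hg => by rw [map_map']; exact h.1 T (g ≫ k) g' (by rw [Category.assoc, hg]),
    fun T g g' hg => by rw [map_map']; exact h.2 T (g ≫ k) g' (by rw [Category.assoc, hg])⟩

theorem map_id' {W : Over S} (x : F.obj (op W)) : F.map (𝟙 W).op x = x := by simp

theorem res_id {σ : F.obj (op X)} (h : Res F i b t s' (𝟙 X) σ) : F.map i.op σ = t ∧ F.map b.op σ = s' :=
  ⟨(h.1 Z i (𝟙 Z) (by simp)).trans (map_id' t), (h.2 X' b (𝟙 X') (by simp)).trans (map_id' s')⟩

theorem res_of {σ : F.obj (op X)} (h₁ : F.map i.op σ = t) (h₂ : F.map b.op σ = s') : Res F i b t s' (𝟙 X) σ :=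
  ⟨fun T g g' hg => by rw [Category.comp_id] at hg; rw [hg, ← map_map', h₁],
    fun T g g' hg => by rw [Category.comp_id] at hg; rw [hg, ← map_map', h₂]⟩

/-- The pullback of two arrows, as an object over the base. -/
abbrev pullObj {A W : Over S} (i : A ⟶ X) (a : W ⟶ X) : Over S :=
  Over.mk (pullback.snd i.left a.left ≫ W.hom)

abbrev pullSnd {A W : Over S} (i : A ⟶ X) (a : W ⟶ X) : pullObj i a ⟶ W :=
  Over.homMk (pullback.snd i.left a.left) rfl

abbrev pullFst {A W : Over S} (i : A ⟶ X) (a : W ⟶ X) : pullObj i a ⟶ A :=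
  Over.homMk (pullback.fst i.left a.left) (by
    show pullback.fst i.left a.left ≫ A.hom = pullback.snd i.left a.left ≫ W.hom
    rw [← Over.w i, pullback.condition_assoc, Over.w a])

theorem pull_cond {A W : Over S} (i : A ⟶ X) (a : W ⟶ X) : pullFst i a ≫ i = pullSnd i a ≫ a :=
  Over.OverMorphism.ext pullback.condition

theorem exists_pull_lift {A W T : Over S} (i : A ⟶ X) (a : W ⟶ X) (g' : T ⟶ A) (g : T ⟶ W)
    (h : g' ≫ i = g ≫ a) : ∃ l : T ⟶ pullObj i a, l ≫ pullFst i a = g' ∧ l ≫ pullSnd i a = g :=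
  ⟨Over.homMk (pullback.lift g'.left g.left (congrArg (·.left) h)) (by
      show pullback.lift _ _ _ ≫ pullback.snd i.left a.left ≫ W.hom = T.hom
      rw [pullback.lift_snd_assoc]; exact Over.w g),
    Over.OverMorphism.ext (pullback.lift_fst _ _ _), Over.OverMorphism.ext (pullback.lift_snd _ _ _)⟩

theorem IsSquare.isPullback_data (h : IsSquare i b) : ∃ (E : Over S) (e : E ⟶ X') (π : E ⟶ Z),
    HTop.IsAlmostBlowUpSquare e.left π.left b.left i.left := by
  obtain ⟨E, e, π, h⟩ := h
  exact ⟨Over.mk (e ≫ X'.hom), Over.homMk e rfl, Over.homMk π (by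
    show π ≫ Z.hom = e ≫ X'.hom
    rw [← Over.w i, ← h.isPullback.w_assoc, Over.w b]), h⟩

/-- Base change of squares. -/
theorem IsSquare.pull (h : IsSquare i b) {W : Over S} (a : W ⟶ X) : IsSquare (pullSnd i a) (pullSnd b a) := by
  obtain ⟨E, e, π, h⟩ := h
  have hX : IsPullback (pullback.fst b.left a.left) (pullback.snd b.left a.left) b.left a.left :=
    IsPullback.of_hasPullback _ _
  have hZ : IsPullback (pullback.fst i.left a.left) (pullback.snd i.left a.left) i.left a.left :=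
    IsPullback.of_hasPullback _ _
  let gE := pullback.fst e (pullback.fst b.left a.left)
  let e₁ := pullback.snd e (pullback.fst b.left a.left)
  exact ⟨_, e₁, hZ.lift (gE ≫ π) (e₁ ≫ pullback.snd b.left a.left) (by
      rw [Category.assoc, Category.assoc, ← hX.w, ← h.isPullback.w, pullback.condition_assoc]),
    baseChange h a.left hX hZ (IsPullback.of_hasPullback _ _) (hZ.lift_snd _ _ _)⟩

theorem IsSquare.ker_pull (h : IsSquare i b) {W : Over S} (a : W ⟶ X) :
    (pullSnd i a).left.ker = i.left.ker.comap a.left := by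
  obtain ⟨E, e, π, h⟩ := h
  haveI := h.isClosedImmersion
  show (pullback.snd i.left a.left).ker = _
  rw [← pullbackSymmetry_hom_comp_fst i.left a.left, Scheme.Hom.ker_comp_of_isIso,
    Scheme.IdealSheafData.ker_fst_of_isClosedImmersion]

theorem genBy_comap {A B : Scheme.{u}} {m : ℕ} {K : B.IdealSheafData} (h : GenBy m K) (p : A ⟶ B) :
    GenBy m (K.comap p) := fun x => by
  obtain ⟨U, hxU, a, hU⟩ := h (p x)
  obtain ⟨V, hxV, e⟩ := BlowUpLib.exists_affine x (W := p ⁻¹ᵁ U.1) hxU
  refine ⟨V, hxV, (p.appLE U.1 V.1 e).hom ∘ a, ?_⟩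
  rw [Groth.Agent.S4666.ideal_comap_eq _ p U V e, hU, Ideal.map_span, Set.range_comp]

theorem genBy_one_of_locPrincipal {A : Scheme.{u}} {K : A.IdealSheafData} (h : HTop.IsLocPrincipal K) :
    GenBy 1 K := fun x => by
  obtain ⟨U, hxU, f, hU⟩ := h x
  exact ⟨U, hxU, fun _ => f, by rw [hU, Set.range_const]⟩

theorem genBy_bot {A : Scheme.{u}} : GenBy 0 (⊥ : A.IdealSheafData) := fun x => by
  obtain ⟨U, hxU, -⟩ := BlowUpLib.exists_affine x (W := ⊤) trivial
  exact ⟨U, hxU, Fin.elim0, by simp⟩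

variable (F)

/-- Cartesian for squares with affine corner and centre generated by `m` global sections. -/
def HAff (m : ℕ) : Prop :=
  ∀ (Z X' X : Over S) (i : Z ⟶ X) (b : X' ⟶ X), IsAffine X.left → IsSquare i b →
    (∃ a : Fin m → Γ(X.left, ⊤), i.left.ker = Scheme.IdealSheafData.ofIdealTop (Ideal.span (Set.range a))) →
    Cart F i b

variable {F}

/-- A cartesian pulled back square gives existence and uniqueness of a solution. -/
theorem existsUnique_res_of_cart (hc : Compat F i b t s') {W : Over S} (a : W ⟶ X)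
    (h : Cart F (pullSnd i a) (pullSnd b a)) : ∃! σ, Res F i b t s' a σ := by
  obtain ⟨σ, ⟨h₁, h₂⟩, hu⟩ := h (F.map (pullFst i a).op t) (F.map (pullFst b a).op s') fun T g g' hg => by
    rw [map_map', map_map']
    refine hc T (g ≫ pullFst b a) (g' ≫ pullFst i a) ?_
    rw [Category.assoc, Category.assoc, pull_cond, pull_cond, ← Category.assoc, hg, Category.assoc]
  refine ⟨σ, ⟨fun T g g' hg => ?_, fun T g g' hg => ?_⟩, fun τ hτ => hu τ
    ⟨hτ.1 _ (pullSnd i a) (pullFst i a) (pull_cond i a).symm,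
      hτ.2 _ (pullSnd b a) (pullFst b a) (pull_cond b a).symm⟩⟩
  · obtain ⟨l, hl₁, hl₂⟩ := exists_pull_lift i a g' g hg.symm
    rw [← hl₁, ← hl₂, ← map_map', h₁, map_map']
  · obtain ⟨l, hl₁, hl₂⟩ := exists_pull_lift b a g' g hg.symm
    rw [← hl₁, ← hl₂, ← map_map', h₂, map_map']

/-- Gluing: it is enough to treat the centres around each point. -/
theorem cart_of_local (hF : Presieve.IsSheaf (Scheme.zariskiTopology.over S) F) (h : IsSquare i b)
    (hloc : ∀ x : X.left, ∃ (U : X.left.affineOpens) (m : ℕ) (a : Fin m → Γ(X.left, U.1)), x ∈ U.1 ∧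
      HAff F m ∧ i.left.ker.ideal U = Ideal.span (Set.range a)) : Cart F i b := by
  choose U m a hxU hm hU using hloc
  intro t s' hc
  let Y : X.left → Over S := fun x => Over.mk ((U x).1.ι ≫ X.hom)
  let f : ∀ x, Y x ⟶ X := fun x => Over.homMk (U x).1.ι rfl
  have hcov : ∀ p : X.left, ∃ x y, (f x).left y = p := fun p => ⟨p, ⟨p, hxU p⟩, rfl⟩
  have key : ∀ (x : X.left) (W : Over S) (k : W ⟶ Y x), IsAffine W.left →
      ∃! σ, Res F i b t s' (k ≫ f x) σ := by
    intro x W k hW
    refine existsUnique_res_of_cart hc _ (hm x _ _ _ _ _ hW (h.pull _) ?_)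
    haveI := hW
    have e : (⊤ : W.left.Opens) ≤ (k ≫ f x).left ⁻¹ᵁ (U x).1 := fun w _ => (k.left w).2
    refine ⟨((k ≫ f x).left.appLE (U x).1 ⊤ e).hom ∘ a x, ?_⟩
    rw [h.ker_pull]
    refine Scheme.IdealSheafData.ext_of_isAffine ?_
    rw [Groth.Agent.S4666.ideal_comap_eq _ _ (U x) ⟨⊤, isAffineOpen_top _⟩ e, hU, Ideal.map_span, Set.range_comp]
    simp
  have uniq : ∀ (x : X.left) (W : Over S) (k : W ⟶ Y x) (σ τ : F.obj (op W)),
      Res F i b t s' (k ≫ f x) σ → Res F i b t s' (k ≫ f x) τ → σ = τ := by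
    intro x W k σ τ hσ hτ
    obtain ⟨κ, O, j, hO, hj, hjcov⟩ := RzLib.VSh.exists_affine_opens W
    refine ext_open hF O j hj hjcov σ τ fun c => ?_
    refine (key x _ (j c ≫ k) (hO c)).unique ?_ ?_
    · rw [Category.assoc]; exact hσ.comp (j c)
    · rw [Category.assoc]; exact hτ.comp (j c)
  have hex : ∀ x, ∃! σ, Res F i b t s' (f x) σ := fun x => by
    have := key x (Y x) (𝟙 _) ((U x).2 : IsAffine (U x).1.toScheme)
    rwa [Category.id_comp] at this
  choose σ hσ hσu using hex
  obtain ⟨τ, hτ⟩ := glue_open hF Y f (fun x => inferInstanceAs (IsOpenImmersion (U x).1.ι)) hcov σ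
    fun x x' W k k' hk => uniq x W k _ _ ((hσ x).comp k) (by rw [hk]; exact (hσ x').comp k')
  refine ⟨τ, res_id (σ := τ) ⟨fun T g g' hg => ?_, fun T g g' hg => ?_⟩, fun τ' hτ' => ?_⟩
  · let O : X.left → Over S := fun x => pullObj (f x) g
    refine ext_open hF O (fun x => pullSnd (f x) g) (fun x => inferInstanceAs
      (IsOpenImmersion (pullback.snd (U x).1.ι g.left))) (fun p => ?_) _ _ fun x => ?_
    · obtain ⟨x, y, hy⟩ := hcov (g.left p)
      obtain ⟨q, -, hq⟩ := Scheme.Pullback.exists_preimage_pullback (f := (f x).left) (g := g.left) y p hy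
      exact ⟨x, q, hq⟩
    rw [map_map', map_map', ← pull_cond (f x) g, ← map_map', hτ x]
    refine (hσ x).1 _ _ _ ?_
    rw [pull_cond, Category.assoc, ← hg, Category.comp_id]
  · let O : X.left → Over S := fun x => pullObj (f x) g
    refine ext_open hF O (fun x => pullSnd (f x) g) (fun x => inferInstanceAs
      (IsOpenImmersion (pullback.snd (U x).1.ι g.left))) (fun p => ?_) _ _ fun x => ?_
    · obtain ⟨x, y, hy⟩ := hcov (g.left p)
      obtain ⟨q, -, hq⟩ := Scheme.Pullback.exists_preimage_pullback (f := (f x).left) (g := g.left) y p hy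
      exact ⟨x, q, hq⟩
    rw [map_map', map_map', ← pull_cond (f x) g, ← map_map', hτ x]
    refine (hσ x).2 _ _ _ ?_
    rw [pull_cond, Category.assoc, ← hg, Category.comp_id]
  · refine ext_open hF Y f (fun x => inferInstanceAs (IsOpenImmersion (U x).1.ι)) hcov _ _ fun x => ?_
    rw [hτ x]
    refine hσu x _ ?_
    have := (res_of hτ'.1 hτ'.2).comp (f x)
    rwa [Category.comp_id] at this

theorem cart_of_genBy (hF : Presieve.IsSheaf (Scheme.zariskiTopology.over S) F) {m : ℕ} (hm : HAff F m)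
    (h : IsSquare i b) (hg : GenBy m i.left.ker) : Cart F i b :=
  cart_of_local hF h fun x => by
    obtain ⟨U, hx, a, hU⟩ := hg x
    exact ⟨U, m, a, hx, hm, hU⟩

theorem existsUnique_res (hF : Presieve.IsSheaf (Scheme.zariskiTopology.over S) F) {m : ℕ} (hm : HAff F m)
    (h : IsSquare i b) (hc : Compat F i b t s') {W : Over S} (a : W ⟶ X)
    (hg : GenBy m (i.left.ker.comap a.left)) : ∃! σ, Res F i b t s' a σ :=
  existsUnique_res_of_cart hc a (cart_of_genBy hF hm (h.pull a) (by rwa [h.ker_pull]))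

/-- The induction on the number of generators. -/
theorem hAff_succ (hF : Presieve.IsSheaf (Scheme.zariskiTopology.over S) F) (h1 : HAff F 1) (h2 : HAff F 2)
    {n : ℕ} (hn : HAff F n) : HAff F (n + 1) := by
  intro Z X' X i b hX hsq ⟨a, ha⟩
  haveI := hX
  let J : X.left.IdealSheafData := Scheme.IdealSheafData.ofIdealTop (Ideal.span (Set.range (a ∘ Fin.castSucc)))
  have hJtop : J.ideal ⟨⊤, isAffineOpen_top _⟩ = Ideal.span (Set.range (a ∘ Fin.castSucc)) := by simp [J]
  have hItop : i.left.ker.ideal ⟨⊤, isAffineOpen_top _⟩ = Ideal.span (Set.range a) := by rw [ha]; simp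
  have hJgen : GenBy n J := fun x => ⟨⟨⊤, isAffineOpen_top _⟩, trivial, a ∘ Fin.castSucc, hJtop⟩
  have hJI : J ≤ i.left.ker := by
    refine Scheme.IdealSheafData.le_of_isAffine ?_
    rw [hJtop, hItop]
    exact Ideal.span_mono (Set.range_comp_subset_range _ _)
  have succ : ∀ {W : Scheme.{u}} (g : W ⟶ X.left) {m : ℕ}, GenBy m (J.comap g) →
      GenBy (m + 1) (i.left.ker.comap g) := by
    intro W g m hg x
    obtain ⟨V, hxV, c, hV⟩ := hg x
    have e : V.1 ≤ g ⁻¹ᵁ ⊤ := fun _ _ => trivial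
    let φ := (g.appLE ⊤ V.1 e).hom
    refine ⟨V, hxV, Fin.snoc c (φ (a (Fin.last n))), ?_⟩
    rw [Groth.Agent.S4666.ideal_comap_eq _ g ⟨⊤, isAffineOpen_top _⟩ V e, hItop,
      show Set.range a = insert (a (Fin.last n)) (Set.range (a ∘ Fin.castSucc)) by
        conv_lhs => rw [← Fin.snoc_init_self a]
        rw [Fin.range_snoc]; rfl,
      Fin.range_snoc, Ideal.span_insert, Ideal.span_insert, Ideal.map_sup, ← hJtop,
      ← Groth.Agent.S4666.ideal_comap_eq _ g ⟨⊤, isAffineOpen_top _⟩ V e, hV, Ideal.map_span, Set.image_singleton]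
  -- the centre and an almost blow up for the first `n` generators
  haveI : LocallyOfFinitePresentation J.subschemeι := by
    refine (MiscFlat6.lfp_iff_ker_fg J.subschemeι).2 fun U => ?_
    have := J.subschemeι.ker_apply U
    rw [← this, Scheme.IdealSheafData.ker_subschemeι]
    exact Ideal.FG.map (Submodule.fg_span (Set.finite_range _)) _
  obtain ⟨EJ, Y₀, eJ, πJ, bJ₀, hJsq₀⟩ := exists_square J.subschemeι
  let ZJ : Over S := Over.mk (J.subschemeι ≫ X.hom)
  let iJ : ZJ ⟶ X := Over.homMk J.subschemeι rfl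
  let Y : Over S := Over.mk (bJ₀ ≫ X.hom)
  let bJ : Y ⟶ X := Over.homMk bJ₀ rfl
  have hJsq : IsSquare iJ bJ := ⟨EJ, eJ, πJ, hJsq₀⟩
  have hJker : iJ.left.ker = J := J.ker_subschemeι
  have hbot : J.comap iJ.left = ⊥ := by
    rw [← le_bot_iff, ← Scheme.IdealSheafData.le_map_iff_comap_le, Scheme.IdealSheafData.map_bot]
    exact hJker.ge
  intro t s' hc
  -- the section on the centre of the first `n` generators and the one on their almost blow up
  obtain ⟨tJ, htJ, -⟩ := existsUnique_res hF h1 hsq hc iJ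
    (succ iJ.left (by rw [hbot]; exact genBy_bot))
  obtain ⟨sY, hsY, -⟩ := existsUnique_res hF h2 hsq hc bJ
    (succ bJ.left (genBy_one_of_locPrincipal (by have := hJsq₀.locPrincipal; rwa [Scheme.IdealSheafData.ker_subschemeι] at this)))
  have hcJ : Compat F iJ bJ tJ sY := fun T g g' hg => by
    refine (existsUnique_res hF h1 hsq hc (g' ≫ iJ) (succ _ ?_)).unique ?_ (htJ.comp g')
    · show GenBy 0 (J.comap (g'.left ≫ iJ.left))
      rw [Scheme.IdealSheafData.comap_comp, hbot]
      exact genBy_comap genBy_bot _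
    · rw [← hg]; exact hsY.comp g
  obtain ⟨σ, ⟨hσ₁, hσ₂⟩, hσu⟩ := cart_of_genBy hF hn hJsq (by rwa [hJker]) tJ sY hcJ
  refine ⟨σ, ⟨?_, ?_⟩, fun τ hτ => hσu τ ⟨?_, ?_⟩⟩
  · let l : Z ⟶ ZJ := Over.homMk (IsClosedImmersion.lift J.subschemeι i.left (by rwa [J.ker_subschemeι])) (by
      show _ ≫ J.subschemeι ≫ X.hom = Z.hom
      rw [IsClosedImmersion.lift_fac_assoc]; exact Over.w i)
    have hl : l ≫ iJ = i := Over.OverMorphism.ext (IsClosedImmersion.lift_fac _ _ _)
    rw [← hl, ← map_map', hσ₁]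
    exact (htJ.1 Z l (𝟙 Z) (by rw [hl, Category.id_comp])).trans (map_id' t)
  · refine (existsUnique_res hF hn hJsq hcJ b (by rw [hJker]; exact genBy_comap hJgen _)).unique
      (by have := (res_of hσ₁ hσ₂).comp b; rwa [Category.comp_id] at this) ⟨fun T g g' hg => ?_, fun T g g' hg => ?_⟩
    · exact (htJ.2 T g' g hg.symm).symm
    · exact (hsY.2 T g' g hg.symm).symm
  · refine (existsUnique_res hF h1 hsq hc iJ (succ iJ.left (by rw [hbot]; exact genBy_bot))).unique ?_ htJ
    have := (res_of hτ.1 hτ.2).comp iJ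
    rwa [Category.comp_id] at this
  · refine (existsUnique_res hF h2 hsq hc bJ (succ bJ.left (genBy_one_of_locPrincipal
      (by have := hJsq₀.locPrincipal; rwa [Scheme.IdealSheafData.ker_subschemeι] at this)))).unique ?_ hsY
    have := (res_of hτ.1 hτ.2).comp bJ
    rwa [Category.comp_id] at this

/-- All almost blow up squares are cartesian as soon as those over an affine corner with centre cut out by at most two
sections are. -/
theorem cart_all (hF : Presieve.IsSheaf (Scheme.zariskiTopology.over S) F) (h0 : HAff F 0) (h1 : HAff F 1)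
    (h2 : HAff F 2) {Z X' X : Over S} {i : Z ⟶ X} {b : X' ⟶ X} (h : IsSquare i b) : Cart F i b := by
  have hall : ∀ m, HAff F m := fun m => by
    induction m with
    | zero => exact h0
    | succ n ih => exact hAff_succ hF h1 h2 ih
  obtain ⟨E, e, π, hs⟩ := h
  haveI := hs.isClosedImmersion
  haveI := hs.finitePresentation_base
  refine cart_of_local hF ⟨E, e, π, hs⟩ fun x => ?_
  obtain ⟨U, hxU, -⟩ := BlowUpLib.exists_affine x (W := ⊤) trivial
  obtain ⟨m, a, ha⟩ := Submodule.fg_iff_exists_fin_generating_family.1 (RzLib.OSh.isFiniteTypeIdeal_ker i.left U)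
  exact ⟨U, m, a, hxU, hall m, ha.symm⟩

end AlmostBlowLib
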