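import Mathlib
import Groth.Agent.AlmostBlowLib.Squares
import Groth.Agent.FlatLib.GenericReducedScheme
import Groth.Agent.BMLib.Geom
import Groth.Agent.S2074

/-!
# Descent along proper surjective morphisms from flat ones and almost blow up squares
-/

set_option autoImplicit false
set_option maxHeartbeats 1000000

noncomputable section

universe w u

open CategoryTheory CategoryTheory.Limits AlgebraicGeometry Opposite

namespace AlmostBlowLib

open RzLib.VSh (map_map' leftCover)
open RzLib.OSh (ext_open glue_open)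

variable {S : Scheme.{u}} {F : (Over S)ᵒᵖ ⥤ Type w}

/-- Descent of sections along one morphism. -/
def Desc (F : (Over S)ᵒᵖ ⥤ Type w) {V U : Over S} (f : V ⟶ U) : Prop :=
  ∀ s : F.obj (op V), (∀ (W : Over S) (g₁ g₂ : W ⟶ V), g₁ ≫ f = g₂ ≫ f → F.map g₁.op s = F.map g₂.op s) →
    ∃! y, F.map f.op y = s

theorem isSheafFor_of_desc {V U : Over S} {f : V ⟶ U} (h : Desc F f) : Presieve.IsSheafFor F (Presieve.singleton f) :=
  Presieve.isSheafFor_singleton.2 fun s hs => h s fun _ g₁ g₂ e => hs g₁ g₂ e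

variable (F) in
/-- The hypothesis on flat morphisms. -/
def FlatHyp : Prop :=
  ∀ (X Y : Over S) (f : X ⟶ Y), IsAffine Y.left → Surjective f.left → Flat f.left → IsProper f.left →
    LocallyOfFinitePresentation f.left → Presieve.IsSheafFor F (Presieve.singleton f)

/-- One flat proper surjective morphism of finite presentation, as a family. -/
abbrev FlatFam (T : Scheme.{u}) (E : PreZeroHypercover.{u + 1} T) : Prop :=
  ∃ i₀ : E.I₀, (∀ i, i = i₀) ∧ Flat (E.f i₀) ∧ IsProper (E.f i₀) ∧ Surjective (E.f i₀) ∧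
    LocallyOfFinitePresentation (E.f i₀)

theorem flatFam_pullback (T T' : Scheme.{u}) (g : T' ⟶ T) (E : PreZeroHypercover.{u + 1} T) (h : FlatFam T E) :
    FlatFam T' (E.pullback₁ g) := by
  obtain ⟨i₀, hu, h₁, h₂, h₃, h₄⟩ := h
  exact ⟨i₀, hu, MorphismProperty.pullback_fst g (E.f i₀) h₁, MorphismProperty.pullback_fst g (E.f i₀) h₂,
    MorphismProperty.pullback_fst g (E.f i₀) h₃, MorphismProperty.pullback_fst g (E.f i₀) h₄⟩

theorem refines_flatFam (hflat : FlatHyp F) : RzLib.OSh.Refines F FlatFam.{u} := by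
  intro U ι Y f hU ⟨i₀, hu, h₁, h₂, h₃, h₄⟩
  refine ⟨PUnit.{u + 2}, fun _ => Y i₀, fun _ => f i₀, fun _ => i₀, fun _ => 𝟙 _, Y i₀, f i₀, fun _ => 𝟙 _,
    fun _ => Category.id_comp _, fun _ => Category.id_comp _, fun _ => inferInstanceAs (IsOpenImmersion (𝟙 _)),
    fun x => ⟨⟨⟩, x, rfl⟩, ⟨PUnit.unit, fun _ => rfl, h₁, h₂, h₃, h₄⟩, ?_⟩
  rw [Presieve.ofArrows_pUnit]
  exact hflat _ _ (f i₀) hU h₃ h₁ h₂ h₄

/-- Flat descent over any base. -/
theorem desc_flat (hF : Presieve.IsSheaf (Scheme.zariskiTopology.over S) F) (hflat : FlatHyp F) {V U : Over S}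
    (f : V ⟶ U) [Flat f.left] [IsProper f.left] [Surjective f.left] [LocallyOfFinitePresentation f.left] :
    Desc F f := by
  intro s hs
  have hE : FlatFam _ (leftCover (fun _ : PUnit.{u + 2} => V) (fun _ => f)) :=
    ⟨PUnit.unit, fun _ => rfl, ‹_›, ‹_›, ‹_›, ‹_›⟩
  obtain ⟨y, hy⟩ := RzLib.OSh.glue_cov flatFam_pullback hF (refines_flatFam hflat) (fun _ : PUnit.{u + 2} => V)
    (fun _ => f) hE (fun _ => s) fun _ _ W g g' hg => hs W g g' hg
  exact ⟨y, hy ⟨⟩, fun y' hy' => RzLib.OSh.ext_cov flatFam_pullback hF (refines_flatFam hflat) _ _ hE _ _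
    fun _ => hy'.trans (hy ⟨⟩).symm⟩

theorem subsingleton_empty (hF : Presieve.IsSheaf (Scheme.zariskiTopology.over S) F) (W : Over S)
    [IsEmpty W.left] (x y : F.obj (op W)) : x = y :=
  ext_open hF (fun p : PEmpty.{1} => p.elim) (fun p => p.elim) (fun p => p.elim) (fun w => isEmptyElim w) x y
    fun p => p.elim

theorem nonempty_empty (hF : Presieve.IsSheaf (Scheme.zariskiTopology.over S) F) (W : Over S)
    [IsEmpty W.left] : Nonempty (F.obj (op W)) :=
  ⟨(glue_open hF (fun p : PEmpty.{1} => p.elim) (fun p => p.elim) (fun p => p.elim) (fun w : W.left => isEmptyElim w)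
    (fun p => p.elim) fun p => p.elim).choose⟩

theorem desc_empty (hF : Presieve.IsSheaf (Scheme.zariskiTopology.over S) F) {V U : Over S} (f : V ⟶ U)
    [IsEmpty U.left] : Desc F f := by
  haveI : IsEmpty V.left := ⟨fun v => isEmptyElim (f.left v)⟩
  intro s _
  obtain ⟨y⟩ := nonempty_empty hF U
  exact ⟨y, subsingleton_empty hF V _ _, fun y' _ => subsingleton_empty hF U _ _⟩

/-- Descent along a morphism from descent over the corners of a square. -/
theorem desc_of_square {U V Z U' T V' : Over S} {f : V ⟶ U} {i : Z ⟶ U} {b : U' ⟶ U} {iT : T ⟶ V}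
    {bV : V' ⟶ V} {fZ : T ⟶ Z} {f' : V' ⟶ U'} (hZ : IsPullback fZ.left iT.left i.left f.left)
    (hb : f' ≫ b = bV ≫ f) (hCU : Cart F i b) (hCV : Cart F iT bV) (hdZ : Desc F fZ) (hdf : Desc F f')
    (hsep : ∀ (W : Over S) (g : W ⟶ U') (x y : F.obj (op W)),
      (∀ (W' : Over S) (q : W' ⟶ W) (q' : W' ⟶ V'), q' ≫ f' = q ≫ g → F.map q.op x = F.map q.op y) → x = y) :
    Desc F f := by
  intro s hs
  have hZ' : fZ ≫ i = iT ≫ f := Over.OverMorphism.ext hZ.w
  obtain ⟨t, ht, htu⟩ := hdZ (F.map iT.op s) fun W g₁ g₂ e => by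
    rw [map_map', map_map']
    exact hs W _ _ (by rw [Category.assoc, Category.assoc, ← hZ', ← Category.assoc, e, Category.assoc])
  obtain ⟨s', hs', hs'u⟩ := hdf (F.map bV.op s) fun W g₁ g₂ e => by
    rw [map_map', map_map']
    exact hs W _ _ (by rw [Category.assoc, Category.assoc, ← hb, ← Category.assoc, e, Category.assoc])
  have hc : Compat F i b t s' := by
    intro W g g' hg
    refine hsep W g _ _ fun W' q q' hq => ?_
    have hw : (q ≫ g') ≫ i = (q' ≫ bV) ≫ f := by
      rw [Category.assoc, ← hg, ← Category.assoc, ← hq, Category.assoc, hb, Category.assoc]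
    let m : W' ⟶ T := Over.homMk (hZ.lift (q ≫ g').left (q' ≫ bV).left (congrArg (·.left) hw)) (by
      rw [← Over.w iT, hZ.lift_snd_assoc]; exact Over.w (q' ≫ bV))
    have hm₁ : m ≫ fZ = q ≫ g' := Over.OverMorphism.ext (hZ.lift_fst _ _ _)
    have hm₂ : m ≫ iT = q' ≫ bV := Over.OverMorphism.ext (hZ.lift_snd _ _ _)
    rw [map_map', map_map', ← hq, ← map_map', hs', ← hm₁, ← map_map' _ m fZ, ht, map_map', map_map', hm₂]
  obtain ⟨σ, ⟨hσ₁, hσ₂⟩, hσu⟩ := hCU t s' hc
  refine ⟨σ, ?_, fun τ hτ => hσu τ ⟨htu _ ?_, hs'u _ ?_⟩⟩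
  · refine (hCV (F.map iT.op s) (F.map bV.op s) fun W g g' e => ?_).unique ⟨?_, ?_⟩ ⟨rfl, rfl⟩
    · rw [map_map', map_map', e]
    · rw [map_map', ← hZ', ← map_map', hσ₁, ht]
    · rw [map_map', ← hb, ← map_map', hσ₂, hs']
  · show F.map fZ.op (F.map i.op τ) = _
    rw [map_map', hZ', ← map_map', hτ]
  · show F.map f'.op (F.map b.op τ) = _
    rw [map_map', hb, ← map_map', hτ]

/-- The empty almost blow up of a thickening. -/
theorem isSquare_thickening {Z U : Over S} (i : Z ⟶ U) [IsClosedImmersion i.left]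
    [LocallyOfFinitePresentation i.left] [Surjective i.left] :
    IsSquare i (Over.homMk (Scheme.emptyTo U.left) rfl : Over.mk (Scheme.emptyTo U.left ≫ U.hom) ⟶ U) := by
  haveI : IsEmpty (∅ : Scheme.{u}) := inferInstance
  haveI : IsProper (Scheme.emptyTo U.left) := inferInstance
  haveI : LocallyOfFinitePresentation (Scheme.emptyTo U.left) := inferInstance
  refine ⟨_, _, _, @of_isBlowUp U.left (pullback (Scheme.emptyTo U.left) i.left) Z.left _ _ _
    (Scheme.emptyTo U.left) i.left _ _ ‹_› ‹_› (IsPullback.of_hasPullback _ _)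
    ⟨fun x : (∅ : Scheme.{u}) => isEmptyElim x, fun T t ht => ?_⟩⟩
  haveI := ModPairLib.isDominant_interior ht
  haveI : IsEmpty (ModPair.interior (i.left.ker.comap t) : Scheme.{u}) := ⟨fun w => w.2 (by
    show w.1 ∈ ((i.left.ker.comap t).support : Set T)
    rw [Scheme.IdealSheafData.support_comap]
    show t w.1 ∈ (i.left.ker.support : Set U.left)
    rw [Scheme.Hom.support_ker]
    exact subset_closure (i.left.surjective _))⟩
  haveI : IsEmpty T := (𝟙 T : T ⟶ T).ker_eq_top_iff_isEmpty.1 (by
    rw [Scheme.Hom.ker_eq_bot_of_isIso, ← (ModPair.interior (i.left.ker.comap t)).ι.ker_eq_bot]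
    exact (ModPair.interior (i.left.ker.comap t)).ι.ker_eq_top_iff_isEmpty.2 inferInstance)
  exact ⟨isInitialOfIsEmpty.to _, isInitialOfIsEmpty.hom_ext _ _, fun l _ => isInitialOfIsEmpty.hom_ext _ _⟩

variable (F) in
/-- The hypothesis on squares. -/
def CartHyp : Prop := ∀ (Z X' X : Over S) (i : Z ⟶ X) (b : X' ⟶ X), IsSquare i b → Cart F i b

/-- Descent through a thickening of finite presentation of the base. -/
theorem desc_of_thickening (hF : Presieve.IsSheaf (Scheme.zariskiTopology.over S) F) (hcart : CartHyp F)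
    {U V Z T : Over S} {f : V ⟶ U} {i : Z ⟶ U} {iT : T ⟶ V} {fZ : T ⟶ Z}
    (hZ : IsPullback fZ.left iT.left i.left f.left) [IsClosedImmersion i.left]
    [LocallyOfFinitePresentation i.left] [Surjective i.left] (hd : Desc F fZ) : Desc F f := by
  haveI : IsClosedImmersion iT.left := MorphismProperty.of_isPullback hZ ‹_›
  haveI : LocallyOfFinitePresentation iT.left := MorphismProperty.of_isPullback hZ ‹_›
  haveI : Surjective iT.left := MorphismProperty.of_isPullback hZ ‹_›
  let U' : Over S := Over.mk (Scheme.emptyTo U.left ≫ U.hom)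
  let V' : Over S := Over.mk (Scheme.emptyTo V.left ≫ V.hom)
  haveI : IsEmpty U'.left := inferInstanceAs (IsEmpty (∅ : Scheme.{u}))
  haveI : IsEmpty V'.left := inferInstanceAs (IsEmpty (∅ : Scheme.{u}))
  let b : U' ⟶ U := Over.homMk (Scheme.emptyTo U.left) rfl
  let bV : V' ⟶ V := Over.homMk (Scheme.emptyTo V.left) rfl
  let f' : V' ⟶ U' := Over.homMk (isInitialOfIsEmpty.to _) (isInitialOfIsEmpty.hom_ext _ _)
  refine desc_of_square hZ (f' := f') (Over.OverMorphism.ext (isInitialOfIsEmpty.hom_ext _ _))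
    (hcart _ _ _ i b (isSquare_thickening i)) (hcart _ _ _ iT bV (isSquare_thickening iT)) hd (desc_empty hF f')
    fun W g x y _ => ?_
  haveI : IsEmpty W.left := ⟨fun w => isEmptyElim (g.left w)⟩
  exact subsingleton_empty hF W x y

/-- Flattening data, with the morphism on the blow ups made surjective. -/
theorem exists_surjective_shrink {U V U' V' Z T : Over S} {f : V ⟶ U} {i : Z ⟶ U} {b : U' ⟶ U} {iT : T ⟶ V}
    {bV : V' ⟶ V} {fZ : T ⟶ Z} {f' : V' ⟶ U'} (hU : IsSquare i b) (hV : IsSquare iT bV)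
    (hZ : IsPullback fZ.left iT.left i.left f.left) (hb : f' ≫ b = bV ≫ f) [IsProper f.left] [Surjective f.left]
    [Flat f'.left] [LocallyOfFinitePresentation f'.left] :
    ∃ (W : Over S) (bW : W ⟶ U) (fW : V' ⟶ W), IsSquare i bW ∧ fW ≫ bW = bV ≫ f ∧ Flat fW.left ∧
      IsProper fW.left ∧ Surjective fW.left ∧ LocallyOfFinitePresentation fW.left := by
  obtain ⟨E, e, π, h⟩ := hU
  obtain ⟨ET, eT, πT, hT⟩ := hV
  haveI := h.isClosedImmersion
  haveI := h.isProper
  haveI := hT.isProper
  haveI := hT.isClosedImmersion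
  haveI : IsProper f'.left := by
    haveI : IsProper (f'.left ≫ b.left) := by
      rw [show f'.left ≫ b.left = bV.left ≫ f.left from congrArg (·.left) hb]; infer_instance
    exact IsProper.of_comp f'.left b.left
  have hopen : IsOpen (Set.range f'.left) := f'.left.isOpenMap.isOpen_range
  have hclosed : IsClosed (Set.range f'.left) := f'.left.isClosedMap.isClosed_range
  let O : U'.left.Opens := ⟨_, hopen⟩
  haveI : IsClosedImmersion O.ι := IsClosedImmersion.of_isPreimmersion O.ι (by
    rw [Scheme.Opens.range_ι]; exact hclosed)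
  have haway : HTop.awayFrom (i.left.ker.comap b.left) ≤ O := by
    intro y hy
    have hy' : b.left y ∉ Set.range i.left := fun hm => hy (by
      show y ∈ ((i.left.ker.comap b.left).support : Set U'.left)
      rw [Scheme.IdealSheafData.support_comap]
      show b.left y ∈ (i.left.ker.support : Set U.left)
      rw [Scheme.Hom.support_ker]
      exact subset_closure hm)
    obtain ⟨v, hv⟩ := f.left.surjective (b.left y)
    have hv' : v ∉ Set.range iT.left := by
      rintro ⟨z, rfl⟩
      exact hy' ⟨fZ.left z, by rw [← Scheme.Hom.comp_apply, hZ.w, Scheme.Hom.comp_apply, hv]⟩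
    rcases RzLib.OSh.mem_range_of_isBlowUp iT.left _ hT.isBlowUp v with hm | ⟨v₁, hv₁⟩
    · exact absurd hm hv'
    let v' := (HTop.supportedOn (iT.left.ker.comap bV.left)).subschemeι v₁
    have hv'' : bV.left v' = v := by rw [← hv₁]; exact (Scheme.Hom.comp_apply _ _ v₁).symm
    have hsame : b.left y = b.left (f'.left v') := by
      rw [← Scheme.Hom.comp_apply, show f'.left ≫ b.left = bV.left ≫ f.left from congrArg (·.left) hb,
        Scheme.Hom.comp_apply, hv'', hv]
    obtain ⟨p, hp₁, hp₂⟩ := Scheme.Pullback.exists_preimage_pullback (f := b.left) (g := b.left) y (f'.left v') hsame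
    let κ := (pullback b.left b.left).fromSpecResidueField p
    have hκ := RzLib.OSh.mono_away_supportedOn i.left b.left h.isBlowUp (κ ≫ pullback.fst _ _) (κ ≫ pullback.snd _ _)
      (by rw [Category.assoc, Category.assoc, pullback.condition]) fun w => by
        rw [Scheme.Hom.comp_apply, Scheme.fromSpecResidueField_apply, hp₁]; exact hy'
    refine ⟨v', ?_⟩
    have := congrArg (fun q => q default) hκ
    simp only [Scheme.Hom.comp_apply, κ, Scheme.fromSpecResidueField_apply, hp₁, hp₂] at this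
    exact this.symm
  have hle : O.ι.ker ≤ HTop.supportedOn (i.left.ker.comap b.left) := by
    show O.ι.ker ≤ (HTop.awayFrom (i.left.ker.comap b.left)).ι.ker
    rw [← U'.left.homOfLE_ι haway]
    exact Scheme.Hom.le_ker_comp _ _
  haveI : LocallyOfFinitePresentation O.ι := inferInstance
  have hsq := (ker_le_iff h O.ι (IsPullback.of_hasPullback e O.ι)).1 hle
  let fW₀ := IsOpenImmersion.lift O.ι f'.left (by rw [Scheme.Opens.range_ι]; rfl)
  have hfW₀ : fW₀ ≫ O.ι = f'.left := IsOpenImmersion.lift_fac _ _ _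
  let W : Over S := Over.mk (O.ι ≫ U'.hom)
  let ιW : W ⟶ U' := Over.homMk O.ι rfl
  let fW : V' ⟶ W := Over.homMk fW₀ (by
    show fW₀ ≫ O.ι ≫ U'.hom = V'.hom; rw [← Category.assoc, hfW₀]; exact Over.w f')
  have hfW : fW ≫ ιW = f' := Over.OverMorphism.ext hfW₀
  have hpb : IsPullback (𝟙 V'.left) fW₀ f'.left O.ι :=
    IsPullback.mk' (by rw [hfW₀, Category.id_comp]) (fun _ a c h₁ _ => by simpa using h₁) fun _ a c hw =>
      ⟨a, Category.comp_id _, by rw [← cancel_mono O.ι, Category.assoc, hfW₀, hw]⟩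
  refine ⟨W, ιW ≫ b, fW, ⟨_, _, _, hsq⟩, by rw [← Category.assoc, hfW, hb],
    MorphismProperty.of_isPullback hpb ‹_›, MorphismProperty.of_isPullback hpb ‹_›, ⟨fun w => ?_⟩,
    MorphismProperty.of_isPullback hpb ‹_›⟩
  obtain ⟨v, hv⟩ := w.2
  exact ⟨v, O.ι.isOpenEmbedding.injective (by show O.ι (fW₀ v) = _; rw [← Scheme.Hom.comp_apply, hfW₀]; exact hv)⟩

/-- Almost blow up squares base changed to a scheme over `S`. -/
theorem isSquare_pullback {E Z X' X : Scheme.{u}} {e : E ⟶ X'} {π : E ⟶ Z} {b : X' ⟶ X} {i : Z ⟶ X}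
    (h : HTop.IsAlmostBlowUpSquare e π b i) (U : Over S) (g : U.left ⟶ X) :
    IsSquare (Over.homMk (pullback.snd i g) rfl : Over.mk (pullback.snd i g ≫ U.hom) ⟶ U)
      (Over.homMk (pullback.snd b g) rfl : Over.mk (pullback.snd b g ≫ U.hom) ⟶ U) := by
  have hX : IsPullback (pullback.fst b g) (pullback.snd b g) b g := IsPullback.of_hasPullback _ _
  have hZ : IsPullback (pullback.fst i g) (pullback.snd i g) i g := IsPullback.of_hasPullback _ _
  exact ⟨_, _, hZ.lift (pullback.fst e (pullback.fst b g) ≫ π) (pullback.snd e (pullback.fst b g) ≫ pullback.snd b g)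
      (by rw [Category.assoc, Category.assoc, ← hX.w, ← h.isPullback.w, pullback.condition_assoc]),
    baseChange h g hX hZ (IsPullback.of_hasPullback _ _) (hZ.lift_snd _ _ _)⟩

/-- Descent along base changes of one morphism of finite presentation over a Noetherian scheme, by induction on the
closed subsets of the base. -/
theorem desc_noetherian (hF : Presieve.IsSheaf (Scheme.zariskiTopology.over S) F) (hflat : FlatHyp F)
    (hcart : CartHyp F) {X₁ Y₁ : Scheme.{u}} [IsNoetherian Y₁] (f₁ : X₁ ⟶ Y₁) [LocallyOfFinitePresentation f₁]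
    [QuasiCompact f₁] [QuasiSeparated f₁] (C : TopologicalSpace.Closeds Y₁) {U V : Over S} (f : V ⟶ U)
    (g : U.left ⟶ Y₁) (gV : V.left ⟶ X₁) [IsAffine U.left] [IsProper f.left] [Surjective f.left]
    (hpb : IsPullback gV f.left f₁ g) (hg : Set.range g ⊆ (C : Set Y₁)) : Desc F f := by
  induction C using WellFoundedLT.induction generalizing U V with
  | ind C ih =>
  let j := (Scheme.IdealSheafData.vanishingIdeal C).subschemeι
  haveI : LocallyOfFinitePresentation j := inferInstance
  have hrange : Set.range j = (C : Set Y₁) := by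
    rw [Scheme.IdealSheafData.range_subschemeι, Scheme.IdealSheafData.coe_support_vanishingIdeal]
  haveI : IsReduced (Scheme.IdealSheafData.vanishingIdeal C).subscheme := BMLib.isReduced_vanishingIdeal C
  haveI : IsNoetherian (Scheme.IdealSheafData.vanishingIdeal C).subscheme :=
    { toIsLocallyNoetherian := LocallyOfFiniteType.isLocallyNoetherian j
      toCompactSpace := QuasiCompact.compactSpace_of_compactSpace j }
  let fC := pullback.snd f₁ j
  haveI : LocallyOfFinitePresentation fC := MorphismProperty.pullback_snd _ _ ‹_›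
  -- the statement for morphisms to the reduced closed subscheme
  have core : ∀ {U V : Over S} (f : V ⟶ U) (g : U.left ⟶ (Scheme.IdealSheafData.vanishingIdeal C).subscheme)
      (gV : V.left ⟶ pullback f₁ j) [IsAffine U.left] [IsProper f.left] [Surjective f.left],
      IsPullback gV f.left fC g → Desc F f := by
    intro U V f g gV _ _ _ hpb
    rcases isEmpty_or_nonempty U.left with hU | ⟨⟨u₀⟩⟩
    · exact desc_empty hF f
    obtain ⟨W, hWd, hWflat, -⟩ := FlatLib.exists_dense_flat fC
    obtain ⟨Z₀, Y₀, E₀, T₀, X₀, D₀, iZ, bY, eE, πE, iT₀, bX, eD, πD, fZ₀, f₀, fE, hsY, hsX, hpZ, -, hcomm, -,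
      hdisj, _, _⟩ := exists_flattening fC W (TopologicalSpace.NoetherianSpace.isCompact _) hWflat
    haveI := hsY.isClosedImmersion
    let Z : Over S := Over.mk (pullback.snd iZ g ≫ U.hom)
    let i : Z ⟶ U := Over.homMk (pullback.snd iZ g) rfl
    let U' : Over S := Over.mk (pullback.snd bY g ≫ U.hom)
    let b : U' ⟶ U := Over.homMk (pullback.snd bY g) rfl
    let T : Over S := Over.mk (pullback.snd iT₀ gV ≫ V.hom)
    let iT : T ⟶ V := Over.homMk (pullback.snd iT₀ gV) rfl
    let V' : Over S := Over.mk (pullback.snd bX gV ≫ V.hom)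
    let bV : V' ⟶ V := Over.homMk (pullback.snd bX gV) rfl
    have hTbig : IsPullback (pullback.fst iT₀ gV ≫ fZ₀) (pullback.snd iT₀ gV) iZ (f.left ≫ g) := by
      have h := (IsPullback.of_hasPullback iT₀ gV).paste_horiz hpZ
      rwa [hpb.w] at h
    have hZ₀ := IsPullback.of_hasPullback iZ g
    let fZ' := hZ₀.lift (pullback.fst iT₀ gV ≫ fZ₀) (pullback.snd iT₀ gV ≫ f.left)
      (by rw [hTbig.w, Category.assoc])
    have hfZ : IsPullback fZ' (pullback.snd iT₀ gV) (pullback.snd iZ g) f.left :=
      IsPullback.of_right (by rwa [hZ₀.lift_fst]) (hZ₀.lift_snd _ _ _) hZ₀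
    let fZ : T ⟶ Z := Over.homMk fZ' (by
      show fZ' ≫ pullback.snd iZ g ≫ U.hom = pullback.snd iT₀ gV ≫ V.hom
      rw [hZ₀.lift_snd_assoc, Category.assoc, Over.w f])
    have hXbig : IsPullback (pullback.fst bX gV) (pullback.snd bX gV ≫ f.left) (f₀ ≫ bY) g := by
      rw [hcomm]; exact (IsPullback.of_hasPullback bX gV).paste_vert hpb
    have hY₀ := IsPullback.of_hasPullback bY g
    let f'' := hY₀.lift (pullback.fst bX gV ≫ f₀) (pullback.snd bX gV ≫ f.left)
      (by rw [Category.assoc]; exact hXbig.w)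
    have hf'' : IsPullback (pullback.fst bX gV) f'' f₀ (pullback.fst bY g) :=
      IsPullback.of_bot (by rwa [hY₀.lift_snd]) (hY₀.lift_fst _ _ _).symm hY₀
    let f' : V' ⟶ U' := Over.homMk f'' (by
      show f'' ≫ pullback.snd bY g ≫ U.hom = pullback.snd bX gV ≫ V.hom
      rw [hY₀.lift_snd_assoc, Category.assoc, Over.w f])
    haveI : Flat f'.left := MorphismProperty.of_isPullback hf'' ‹Flat f₀›
    haveI : LocallyOfFinitePresentation f'.left := MorphismProperty.of_isPullback hf'' ‹LocallyOfFinitePresentation f₀›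
    have hb : f' ≫ b = bV ≫ f := Over.OverMorphism.ext (hY₀.lift_snd _ _ _)
    have hU' : IsSquare i b := isSquare_pullback hsY U g
    have hV' : IsSquare iT bV := isSquare_pullback hsX V gV
    obtain ⟨U'', b'', fW, hU'', hb'', _, _, _, _⟩ := exists_surjective_shrink (fZ := fZ) hU' hV' hfZ hb
    haveI : IsClosedImmersion i.left := inferInstanceAs (IsClosedImmersion (pullback.snd iZ g))
    haveI : IsAffine Z.left := isAffine_of_isAffineHom i.left
    haveI : IsProper fZ.left := MorphismProperty.of_isPullback hfZ.flip ‹IsProper f.left›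
    haveI : Surjective fZ.left := MorphismProperty.of_isPullback hfZ.flip ‹Surjective f.left›
    have hdZ : Desc F fZ := by
      let C' : TopologicalSpace.Closeds Y₁ :=
        ⟨Set.range (iZ ≫ j), (iZ ≫ j).isClosedEmbedding.isClosed_range⟩
      have hlt : C' < C := by
        refine lt_of_le_of_ne (fun y ⟨z, hz⟩ => (show y ∈ (C : Set Y₁) by rw [← hrange]; exact ⟨iZ z, by rw [← hz, Scheme.Hom.comp_apply]⟩)) fun he => ?_
        obtain ⟨x, hx⟩ := hWd.nonempty_iff.2 ⟨g u₀⟩
        have hxC : j x ∈ (C' : Set Y₁) := by rw [he, ← hrange]; exact ⟨x, rfl⟩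
        obtain ⟨z, hz⟩ := hxC
        rw [Scheme.Hom.comp_apply] at hz
        have hzW : z ∈ iZ ⁻¹ᵁ W := by
          show iZ z ∈ W
          rw [j.isClosedEmbedding.injective hz]; exact hx
        rw [hdisj] at hzW
        exact hzW
      refine ih C' hlt fZ ((pullback.fst iZ g) ≫ iZ ≫ j) ((pullback.snd iT₀ gV ≫ gV) ≫ pullback.fst f₁ j) ?_ ?_
      · have h1 := hfZ.flip.paste_horiz hpb
        rw [show pullback.snd iZ g ≫ g = pullback.fst iZ g ≫ iZ from pullback.condition.symm] at h1
        have h2 := h1.paste_horiz (IsPullback.of_hasPullback f₁ j)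
        rwa [Category.assoc _ iZ j] at h2
      · rintro _ ⟨z, rfl⟩
        exact ⟨pullback.fst iZ g z, (Scheme.Hom.comp_apply _ _ _).symm⟩
    refine desc_of_square (fZ := fZ) (i := i) (iT := iT) hfZ hb'' (hcart _ _ _ i b'' hU'') (hcart _ _ _ iT bV hV') hdZ (desc_flat hF hflat fW)
      fun W' k x y hxy => ?_
    let P := pullObj fW k
    haveI : Flat (pullSnd fW k).left := MorphismProperty.pullback_snd _ _ ‹Flat fW.left›
    haveI : IsProper (pullSnd fW k).left := MorphismProperty.pullback_snd _ _ ‹IsProper fW.left›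
    haveI : Surjective (pullSnd fW k).left := MorphismProperty.pullback_snd _ _ ‹Surjective fW.left›
    haveI : LocallyOfFinitePresentation (pullSnd fW k).left :=
      MorphismProperty.pullback_snd _ _ ‹LocallyOfFinitePresentation fW.left›
    exact (desc_flat hF hflat (pullSnd fW k) (F.map (pullSnd fW k).op y) fun W g₁ g₂ e => by
        rw [map_map', map_map', e]).unique (hxy P (pullSnd fW k) (pullFst fW k) (pull_cond fW k)) rfl
  -- reduction to the reduced closed subscheme
  let Z : Over S := Over.mk (pullback.fst g j ≫ U.hom)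
  let i : Z ⟶ U := Over.homMk (pullback.fst g j) rfl
  let T : Over S := Over.mk (pullback.fst f.left i.left ≫ V.hom)
  let iT : T ⟶ V := Over.homMk (pullback.fst f.left i.left) rfl
  let fZ : T ⟶ Z := Over.homMk (pullback.snd f.left i.left) (by
    show pullback.snd f.left i.left ≫ Z.hom = pullback.fst f.left i.left ≫ V.hom
    rw [← Over.w i, ← pullback.condition_assoc, Over.w f])
  haveI : IsClosedImmersion i.left := inferInstanceAs (IsClosedImmersion (pullback.fst g j))
  haveI : LocallyOfFinitePresentation i.left := MorphismProperty.pullback_fst g j inferInstance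
  haveI : Surjective i.left := ⟨fun y => by
    obtain ⟨y', hy'⟩ : g y ∈ Set.range j := by rw [hrange]; exact hg ⟨y, rfl⟩
    obtain ⟨q, hq, -⟩ := Scheme.Pullback.exists_preimage_pullback (f := g) (g := j) y y' hy'.symm
    exact ⟨q, hq⟩⟩
  haveI : IsAffine Z.left := isAffine_of_isAffineHom i.left
  haveI : IsProper fZ.left := MorphismProperty.pullback_snd _ _ ‹IsProper f.left›
  haveI : Surjective fZ.left := MorphismProperty.pullback_snd _ _ ‹Surjective f.left›
  have hT : IsPullback fZ.left iT.left i.left f.left := (IsPullback.of_hasPullback f.left i.left).flip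
  have hbig : IsPullback (pullback.fst f.left i.left ≫ gV) fZ.left f₁ (pullback.snd g j ≫ j) := by
    rw [← pullback.condition]; exact hT.flip.paste_horiz hpb
  have hC := IsPullback.of_hasPullback f₁ j
  refine desc_of_thickening hF hcart hT (core fZ (pullback.snd g j)
    (hC.lift (pullback.fst f.left i.left ≫ gV) (fZ.left ≫ pullback.snd g j)
      (by rw [Category.assoc (fZ.left)]; exact hbig.w)) ?_)
  exact IsPullback.of_right (by rwa [hC.lift_fst]) (hC.lift_snd _ _ _) hC

/-- Descent along every proper surjective morphism of finite presentation onto an affine scheme. -/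
theorem isSheafFor_proper (hF : Presieve.IsSheaf (Scheme.zariskiTopology.over S) F) (hflat : FlatHyp F)
    (hcart : CartHyp F) {U V : Over S} (f : V ⟶ U) [IsAffine U.left] [IsProper f.left] [Surjective f.left]
    [LocallyOfFinitePresentation f.left] : Presieve.IsSheafFor F (Presieve.singleton f) := by
  obtain ⟨A⟩ := NoethApproxLib.exists_approx U.left
  obtain ⟨j, X₁, f₁, gV, _, _, _, hpb⟩ := Groth.Agent.S0591.result A.D A.cone A.isLimit V.left f.left
  haveI : IsNoetherian (A.D.obj j) := { toIsLocallyNoetherian := A.isLocallyNoetherian j }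
  exact isSheafFor_of_desc (desc_noetherian hF hflat hcart f₁ ⊤ f (A.cone.π.app j) gV hpb (Set.subset_univ _))

end AlmostBlowLib
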