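import Mathlib
import Groth.Agent.AlmostBlowLib.Descent

/-!
# The criterion for sheaves on the big h site by flat morphisms and almost blow up squares
-/

set_option autoImplicit false
set_option maxHeartbeats 1000000

noncomputable section

universe w u

open CategoryTheory CategoryTheory.Limits AlgebraicGeometry Opposite

namespace AlmostBlowLib

variable {S : Scheme.{u}} {F : (Over S)ᵒᵖ ⥤ Type w}

variable (F) in
/-- Squares with affine corner satisfying a side condition are cartesian, in the form of the statements. -/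
def SquareCond (P : ∀ {Z X : Over S}, (Z ⟶ X) → Prop) : Prop :=
  ∀ (E Z X' X : Over S) (e : E ⟶ X') (π : E ⟶ Z) (b : X' ⟶ X) (i : Z ⟶ X), IsAffine X.left →
    HTop.IsAlmostBlowUpSquare e.left π.left b.left i.left → P i → ∀ (t : F.obj (op Z)) (s' : F.obj (op X')),
      F.map π.op t = F.map e.op s' → ∃! s : F.obj (op X), F.map i.op s = t ∧ F.map b.op s = s'

theorem cartesian_of_isSheaf (hF : Presieve.IsSheaf (HTop.Jh S) F) {E Z X' X : Over S} (e : E ⟶ X') (π : E ⟶ Z)
    (b : X' ⟶ X) (i : Z ⟶ X) (h : HTop.IsAlmostBlowUpSquare e.left π.left b.left i.left) (t : F.obj (op Z))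
    (s' : F.obj (op X')) (hts : F.map π.op t = F.map e.op s') :
    ∃! s : F.obj (op X), F.map i.op s = t ∧ F.map b.op s = s' := by
  haveI := h.isClosedImmersion
  haveI := h.finitePresentation_base
  haveI := h.isProper
  exact RzLib.OSh.existsUnique_square (RzLib.OSh.pairSheaf_h hF) e π b i h.isPullback h.finitePresentation_base
    h.finitePresentation (fun _ _ _ _ hl => hl)
    (fun W p q hpq hav => RzLib.OSh.mono_away_supportedOn i.left b.left h.isBlowUp p q hpq hav)
    (fun x => by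
      rcases RzLib.OSh.mem_range_of_isBlowUp i.left _ h.isBlowUp x with hx | ⟨y, hy⟩
      · exact Or.inl hx
      · exact Or.inr ⟨_, (Scheme.Hom.comp_apply _ _ y).symm.trans hy⟩) t s' hts

theorem flatHyp_of_isSheaf (hF : Presieve.IsSheaf (HTop.Jh S) F) : FlatHyp F := by
  intro X Y f _ hs _ hp hl
  haveI := hs; haveI := hp; haveI := hl
  have := RzLib.OSh.isSheafFor_hFamily hF (fun _ : PUnit.{u + 1} => X) (fun _ => f) (VCovLib.isHCover_proper f.left)
  rwa [Presieve.ofArrows_pUnit] at this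

theorem range_two {A : Type u} [CommRing A] : ∀ {m : ℕ}, m ≤ 2 → ∀ a : Fin m → A,
    ∃ f₁ f₂, Ideal.span (Set.range a) = Ideal.span {f₁, f₂}
  | 0, _, a => ⟨0, 0, by simp⟩
  | 1, _, a => ⟨a 0, a 0, by simp [Set.range_unique]⟩
  | 2, _, a => ⟨a 0, a 1, by rw [show Set.range a = {a 0, a 1} by ext x; simp [Fin.exists_fin_two, eq_comm]]⟩
  | n + 3, h, _ => by omega

/-- The converse direction. -/
theorem isSheaf_Jh_of_squares (hF : Presieve.IsSheaf (Scheme.zariskiTopology.over S) F) (hflat : FlatHyp F)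
    (hsq : SquareCond F (fun {_ X} i => ∃ f₁ f₂ : Γ(X.left, ⊤),
      i.left.ker = Scheme.IdealSheafData.ofIdealTop (Ideal.span {f₁, f₂}))) :
    Presieve.IsSheaf (HTop.Jh S) F := by
  have hA : ∀ m, m ≤ 2 → HAff F m := by
    intro m hm Z X' X i b hX hs ⟨a, ha⟩ t s' hc
    obtain ⟨E, e, π, h⟩ := hs.isPullback_data
    obtain ⟨f₁, f₂, hf⟩ := range_two hm a
    refine hsq E Z X' X e π b i hX h ⟨f₁, f₂, by rw [ha, hf]⟩ t s' (hc E e π (Over.OverMorphism.ext h.isPullback.w)).symm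
  refine RzLib.OSh.isSheaf_Jh_of hF fun U V f hU hp hs hl => ?_
  haveI := hU; haveI := hp; haveI := hs; haveI := hl
  exact isSheafFor_proper hF hflat (fun Z X' X i b h => cart_all hF (hA 0 (by omega)) (hA 1 (by omega)) (hA 2 le_rfl) h) f

theorem isSheaf_Jh_iff (S : Scheme.{u}) (F : (Over S)ᵒᵖ ⥤ Type w) (P : ∀ {Z X : Over S}, (Z ⟶ X) → Prop)
    (hP : ∀ {Z X : Over S} (i : Z ⟶ X),
      (∃ f₁ f₂ : Γ(X.left, ⊤), i.left.ker = Scheme.IdealSheafData.ofIdealTop (Ideal.span {f₁, f₂})) → P i) :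
    Presieve.IsSheaf (HTop.Jh S) F ↔
      (Presieve.IsSheaf (Scheme.zariskiTopology.over S) F ∧ FlatHyp F ∧ SquareCond F P) :=
  ⟨fun hF => ⟨RzLib.OSh.isSheaf_zariski_of_isHSheafOver (RzLib.OSh.isHSheafOver_of_isSheaf hF), flatHyp_of_isSheaf hF,
    fun _ _ _ _ e π b i _ h _ t s' hts => cartesian_of_isSheaf hF e π b i h t s' hts⟩,
   fun ⟨h₁, h₂, h₃⟩ => isSheaf_Jh_of_squares h₁ h₂ fun E Z X' X e π b i hX h hi => h₃ E Z X' X e π b i hX h (hP i hi)⟩

end AlmostBlowLib
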